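import Mathlib.GroupTheory.Sylow
import Mathlib.GroupTheory.SpecificGroups.Cyclic
import Cfsg.Agent.Lib.Fusion.Transfer
import Cfsg.Prelude.Def_Transfer

/-!
# Sylow subgroups extraspecial of order 27 and exponent 3 with isolated centre

The elementary facts: the centre is isolated, the centralizers of the non-central elements are
3-nilpotent and fusion is controlled by the normalizer.
-/

set_option autoImplicit false
set_option linter.unusedSectionVars false

open scoped commutatorElement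

namespace CfsgLib.Block.ExtraThree

open Cfsg

universe u

variable {G : Type u} [Group G] [Finite G]

/-- The shape of the Sylow subgroup: order 27, exponent 3, `z` generates the centre, and `z` is
isolated. -/
structure Frame (P : Sylow 3 G) (z : G) : Prop where
  card : Nat.card ↥(P : Subgroup G) = 27
  exp : ∀ u ∈ (P : Subgroup G), u ^ 3 = 1
  mem : z ∈ (P : Subgroup G)
  ne : z ≠ 1
  central : ∀ u ∈ (P : Subgroup G), Commute u z
  comm : ∀ a ∈ (P : Subgroup G), a ∉ Subgroup.zpowers z →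
    ∃ u ∈ (P : Subgroup G), u * a * u⁻¹ = a * z
  cosets : ∀ a ∈ (P : Subgroup G), ∀ u ∈ (P : Subgroup G),
    u * a * u⁻¹ = a ∨ u * a * u⁻¹ = a * z ∨ u * a * u⁻¹ = a * z ^ 2
  isolated : ∀ g : G, g * z * g⁻¹ ∈ (P : Subgroup G) → g * z * g⁻¹ = z

variable {P : Sylow 3 G} {z : G}

/-- The centralizer in `P` of a non-central element. -/
def centP (P : Sylow 3 G) (a : G) : Subgroup G :=
  Subgroup.centralizer ({a} : Set G) ⊓ (P : Subgroup G)

theorem mem_centP {a u : G} : u ∈ centP P a ↔ Commute u a ∧ u ∈ (P : Subgroup G) := by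
  rw [centP, Subgroup.mem_inf, Subgroup.mem_centralizer_singleton_iff]
  exact Iff.rfl

theorem zpowers_three {z : G} (h3 : z ^ 3 = 1) {u : G} :
    u ∈ Subgroup.zpowers z ↔ u = 1 ∨ u = z ∨ u = z ^ 2 := by
  constructor
  · intro hu
    obtain ⟨i, rfl⟩ := Subgroup.mem_zpowers_iff.mp hu
    have hz : z ^ (3 : ℤ) = 1 := by exact_mod_cast h3
    have e : z ^ i = z ^ (i % 3) := by
      conv_lhs => rw [← Int.mul_ediv_add_emod i 3, zpow_add, zpow_mul, hz, one_zpow, one_mul]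
    rw [e]
    have h1 : 0 ≤ i % 3 := Int.emod_nonneg _ (by norm_num)
    have h2 : i % 3 < 3 := Int.emod_lt_of_pos _ (by norm_num)
    rcases (show i % 3 = 0 ∨ i % 3 = 1 ∨ i % 3 = 2 by omega) with h | h | h <;> rw [h]
    · exact Or.inl (zpow_zero z)
    · exact Or.inr (Or.inl (zpow_one z))
    · exact Or.inr (Or.inr (by rw [show (2 : ℤ) = ((2 : ℕ) : ℤ) from rfl, zpow_natCast]))
  · rintro (h | h | h) <;> subst h
    · exact one_mem _
    · exact Subgroup.mem_zpowers _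
    · exact Subgroup.npow_mem_zpowers _ 2

/-- The frame from the hypotheses of the statement. -/
theorem exists_frame (P : Sylow 3 G) (hE : IsExtraspecial 3 ↥(P : Subgroup G))
    (h27 : Nat.card ↥(P : Subgroup G) = 27) (hexp : ∀ x ∈ (P : Subgroup G), x ^ 3 = 1)
    (hNC : ∀ g ∈ Subgroup.normalizer ((P : Subgroup G) : Set G), ∀ z ∈ (P : Subgroup G),
      (∀ y ∈ (P : Subgroup G), z * y = y * z) → g * z = z * g) :
    ∃ z, Frame P z := by
  have hp3 : Fact (Nat.Prime 3) := ⟨Nat.prime_three⟩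
  have hnt : Nontrivial ↥(Subgroup.center ↥(P : Subgroup G)) :=
    Finite.one_lt_card_iff_nontrivial.mp (by rw [hE.2]; norm_num)
  obtain ⟨⟨⟨z, hzP⟩, hzc⟩, hz1⟩ := exists_ne (1 : ↥(Subgroup.center ↥(P : Subgroup G)))
  have hzne : z ≠ 1 := fun e => hz1 (by subst e; rfl)
  have hzcomm : ∀ u ∈ (P : Subgroup G), Commute u z := fun u hu =>
    congrArg Subtype.val (Subgroup.mem_center_iff.mp hzc ⟨u, hu⟩)
  have hzord : orderOf z = 3 := orderOf_eq_prime (hexp z hzP) hzne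
  have hcen : Subgroup.zpowers (⟨z, hzP⟩ : ↥(P : Subgroup G)) =
      Subgroup.center ↥(P : Subgroup G) := by
    refine Subgroup.eq_of_le_of_card_ge (Subgroup.zpowers_le.mpr hzc) ?_
    rw [hE.2, Nat.card_zpowers, Subgroup.orderOf_mk, hzord]
  have hmemZ : ∀ {u : G} (hu : u ∈ (P : Subgroup G)),
      (⟨u, hu⟩ : ↥(P : Subgroup G)) ∈ Subgroup.center ↥(P : Subgroup G) ↔
        u ∈ Subgroup.zpowers z := by
    intro u hu
    rw [← hcen, Subgroup.mem_zpowers_iff, Subgroup.mem_zpowers_iff]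
    exact exists_congr fun i => by rw [Subtype.ext_iff, SubgroupClass.coe_zpow]
  have hcoset : ∀ a ∈ (P : Subgroup G), ∀ u ∈ (P : Subgroup G),
      a⁻¹ * (u * a * u⁻¹) ∈ Subgroup.zpowers z := by
    intro a ha u hu
    have h : (⁅(⟨a, ha⟩ : ↥(P : Subgroup G))⁻¹, ⟨u, hu⟩⁆) ∈
        Subgroup.center ↥(P : Subgroup G) := hE.1.2.2 ▸
      Subgroup.commutator_mem_commutator (Subgroup.mem_top _) (Subgroup.mem_top _)
    have hm : a⁻¹ * (u * a * u⁻¹) ∈ (P : Subgroup G) :=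
      mul_mem (inv_mem ha) (mul_mem (mul_mem hu ha) (inv_mem hu))
    refine (hmemZ hm).mp ?_
    convert h using 1
    refine Subtype.ext ?_
    simp [commutatorElement_def, mul_assoc]
  have hcosets : ∀ a ∈ (P : Subgroup G), ∀ u ∈ (P : Subgroup G),
      u * a * u⁻¹ = a ∨ u * a * u⁻¹ = a * z ∨ u * a * u⁻¹ = a * z ^ 2 := by
    intro a ha u hu
    rcases (zpowers_three (hexp z hzP)).mp (hcoset a ha u hu) with h | h | h
    · exact Or.inl (inv_mul_eq_one.mp h).symm
    · exact Or.inr (Or.inl (inv_mul_eq_iff_eq_mul.mp h))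
    · exact Or.inr (Or.inr (inv_mul_eq_iff_eq_mul.mp h))
  have hcommz : ∀ a ∈ (P : Subgroup G), a ∉ Subgroup.zpowers z →
      ∃ u ∈ (P : Subgroup G), u * a * u⁻¹ = a * z := by
    intro a ha hna
    obtain ⟨u, hu, hne⟩ : ∃ u ∈ (P : Subgroup G), u * a * u⁻¹ ≠ a := by
      by_contra hall
      push Not at hall
      refine hna ((hmemZ ha).mp (Subgroup.mem_center_iff.mpr fun t => Subtype.ext ?_))
      exact mul_inv_eq_iff_eq_mul.mp (hall t t.2)
    rcases hcosets a ha u hu with h | h | h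
    · exact absurd h hne
    · exact ⟨u, hu, h⟩
    · refine ⟨u ^ 2, pow_mem hu 2, ?_⟩
      have hc : u * z ^ 2 * u⁻¹ = z ^ 2 :=
        mul_inv_eq_iff_eq_mul.mpr ((hzcomm u hu).pow_right 2).eq
      calc u ^ 2 * a * (u ^ 2)⁻¹ = u * (u * a * u⁻¹) * u⁻¹ := by
            rw [pow_two, mul_inv_rev]; simp only [mul_assoc]
        _ = u * (a * z ^ 2) * u⁻¹ := by rw [h]
        _ = u * a * u⁻¹ * (u * z ^ 2 * u⁻¹) := by group
        _ = a * (z ^ 3 * z) := by rw [h, hc]; group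
        _ = a * z := by rw [hexp z hzP, one_mul]
  refine ⟨z, h27, hexp, hzP, hzne, hzcomm, hcommz, hcosets, ?_⟩
  intro g hy
  set y := g * z * g⁻¹ with hydef
  -- `z` is not conjugate to another central element
  have hcentral : ∀ c : G, c * z * c⁻¹ ∈ Subgroup.zpowers z → c * z * c⁻¹ = z := by
    intro c hc
    obtain ⟨i, hi⟩ := Subgroup.mem_zpowers_iff.mp hc
    have hzC : z ∈ Subgroup.centralizer ((P : Subgroup G) : Set G) :=
      Subgroup.mem_centralizer_iff.mpr fun u hu => hzcomm u hu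
    have hcC : (c⁻¹)⁻¹ * z * c⁻¹ ∈ Subgroup.centralizer ((P : Subgroup G) : Set G) := by
      rw [inv_inv, ← hi]
      exact zpow_mem hzC i
    obtain ⟨n, hn, e⟩ := Sylow.conj_eq_normalizer_conj_of_mem_centralizer P z c⁻¹ hzC hcC
    rw [inv_inv] at e
    rw [e]
    have h2 : z * n = n * z :=
      (hNC n hn z hzP fun u hu => (hzcomm u hu).eq.symm).symm
    rw [mul_assoc, h2, inv_mul_cancel_left]
  by_cases hyZ : y ∈ Subgroup.zpowers z
  · exact hcentral g hyZ
  exfalso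
  -- `A = ⟨z, y⟩`
  obtain ⟨u, hu, huy⟩ := hcommz y hy hyZ
  have hzy : Commute z y := (hzcomm y hy).symm
  let CY : Subgroup G := Subgroup.centralizer ({y} : Set G)
  let Q : Subgroup G := (P : Subgroup G).map (MulAut.conj g).toMonoidHom
  have hQy : Q ≤ CY := by
    rintro _ ⟨w, hw, rfl⟩
    refine Subgroup.mem_centralizer_singleton_iff.mpr ?_
    exact ((hzcomm w hw).map (MulAut.conj g).toMonoidHom).eq
  let Q' : Sylow 3 G := g • P
  have hQ'c : (Q' : Subgroup G) ≤ CY := hQy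
  have hzCY : z ∈ CY := Subgroup.mem_centralizer_singleton_iff.mpr hzy.eq
  have hzp : IsPGroup 3 (Subgroup.zpowers (⟨z, hzCY⟩ : CY)) :=
    IsPGroup.of_card (n := 1) (by rw [Nat.card_zpowers, Subgroup.orderOf_mk, hzord, pow_one])
  obtain ⟨R, hR⟩ := hzp.exists_le_sylow
  obtain ⟨c, hc⟩ := MulAction.exists_smul_eq CY (Q'.subtype hQ'c) R
  obtain ⟨w, hw, hwe⟩ : ∃ w ∈ (P : Subgroup G),
      ((c : G) * g) * w * ((c : G) * g)⁻¹ = z := by
    have hzR : (⟨z, hzCY⟩ : CY) ∈ (R : Subgroup CY) := hR (Subgroup.mem_zpowers _)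
    rw [← hc, Sylow.coe_subgroup_smul] at hzR
    obtain ⟨t, ht, hte⟩ := hzR
    rw [SetLike.mem_coe, Sylow.coe_subtype, Subgroup.mem_subgroupOf] at ht
    obtain ⟨w, hw, hwe⟩ := (ht : (t : G) ∈ Q)
    refine ⟨w, hw, ?_⟩
    have e := congrArg Subtype.val hte
    simp only [MulDistribMulAction.toMonoidEnd_apply, MulDistribMulAction.toMonoidHom_apply,
      MulAut.smul_def, MulAut.conj_apply, Subgroup.coe_mul, InvMemClass.coe_inv] at e
    change g * w * g⁻¹ = (t : G) at hwe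
    rw [← e, ← hwe]
    group
  set k := (c : G) * g with hk
  have hky : k * z * k⁻¹ = y := by
    rw [hk, mul_inv_rev, show (c : G) * g * z * (g⁻¹ * (c : G)⁻¹) = c * y * (c : G)⁻¹ by
      rw [hydef]; group, Subgroup.mem_centralizer_singleton_iff.mp c.2, mul_inv_cancel_right]
  have hwn : w ∉ Subgroup.zpowers z := by
    intro hwZ
    apply hyZ
    obtain ⟨i, hi⟩ := Subgroup.mem_zpowers_iff.mp hwZ
    have hz' : y ^ i = z := by
      calc y ^ i = (k * z * k⁻¹) ^ i := by rw [hky]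
        _ = k * w * k⁻¹ := by rw [conj_zpow, hi]
        _ = z := hwe
    have hmem : z ∈ Subgroup.zpowers y := ⟨i, hz'⟩
    have hy3 : orderOf y = 3 := by
      rw [hydef, ← hzord]; exact MulEquiv.orderOf_eq (MulAut.conj g) z
    have heq : Subgroup.zpowers z = Subgroup.zpowers y :=
      Subgroup.eq_of_le_of_card_ge (Subgroup.zpowers_le.mpr hmem)
        (by rw [Nat.card_zpowers, Nat.card_zpowers, hy3, hzord])
    rw [heq]
    exact Subgroup.mem_zpowers y
  obtain ⟨u', hu', hu'e⟩ := hcommz w hw hwn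
  set v := k * u' * k⁻¹ with hv
  have hvy : v * y * v⁻¹ = y := by
    rw [hv, ← hky, show k * u' * k⁻¹ * (k * z * k⁻¹) * (k * u' * k⁻¹)⁻¹ =
      k * (u' * z * u'⁻¹) * k⁻¹ by group, (hzcomm u' hu').eq, mul_inv_cancel_right]
  have hvz : v * z * v⁻¹ = z * y := by
    calc v * z * v⁻¹ = k * (u' * w * u'⁻¹) * k⁻¹ := by rw [hv, ← hwe]; group
      _ = k * w * k⁻¹ * (k * z * k⁻¹) := by rw [hu'e]; group
      _ = z * y := by rw [hwe, hky]
  have huz : u * z * u⁻¹ = z := mul_inv_eq_iff_eq_mul.mpr (hzcomm u hu).eq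
  have hviy : v⁻¹ * y * v = y := by
    conv_lhs => rw [← hvy]
    group
  have hviz : v⁻¹ * z * v = z * y⁻¹ := by
    have e : z = v⁻¹ * (z * y) * v := by rw [← hvz]; group
    have e2 : v⁻¹ * (z * y) * v = v⁻¹ * z * v * y := by
      rw [show v⁻¹ * (z * y) * v = v⁻¹ * z * v * (v⁻¹ * y * v) by group, hviy]
    rw [e2] at e
    exact eq_mul_inv_of_mul_eq e.symm
  set r := u * v⁻¹ * u with hr
  have hrz : r * z * r⁻¹ = y⁻¹ := by
    calc r * z * r⁻¹ = u * (v⁻¹ * (u * z * u⁻¹) * v) * u⁻¹ := by rw [hr]; group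
      _ = u * (z * y⁻¹) * u⁻¹ := by rw [huz, hviz]
      _ = u * z * u⁻¹ * (u * y * u⁻¹)⁻¹ := by group
      _ = y⁻¹ := by rw [huz, huy, mul_inv_rev, mul_inv_cancel_left]
  have hry : r * y * r⁻¹ = z := by
    calc r * y * r⁻¹ = u * (v⁻¹ * (u * y * u⁻¹) * v) * u⁻¹ := by rw [hr]; group
      _ = u * (v⁻¹ * y * v * (v⁻¹ * z * v)) * u⁻¹ := by rw [huy]; group
      _ = u * z * u⁻¹ := by
        rw [hviy, hviz, ← mul_assoc y, hzy.symm.eq, mul_inv_cancel_right]
      _ = z := huz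
  set s := r * r with hs
  have hsz : s * z * s⁻¹ = z⁻¹ := by
    calc s * z * s⁻¹ = r * (r * z * r⁻¹) * r⁻¹ := by rw [hs]; group
      _ = (r * y * r⁻¹)⁻¹ := by rw [hrz]; group
      _ = z⁻¹ := by rw [hry]
  have hsy : s * y * s⁻¹ = y⁻¹ := by
    calc s * y * s⁻¹ = r * (r * y * r⁻¹) * r⁻¹ := by rw [hs]; group
      _ = y⁻¹ := by rw [hry, hrz]
  -- Frattini in the subgroup fixing `z` and `⟨z, y⟩`
  let A : Subgroup G := Subgroup.closure {z, y}
  let L : Subgroup G := Subgroup.centralizer ({z} : Set G) ⊓ Subgroup.normalizer (A : Set G)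
  have hAmem : ∀ {t : G}, t * z * t⁻¹ ∈ A → t * y * t⁻¹ ∈ A →
      t ∈ Subgroup.normalizer (A : Set G) := by
    intro t h1 h2
    refine Subgroup.mem_normalizer_fintype fun a ha => ?_
    have hle : A.map (MulAut.conj t).toMonoidHom ≤ A := by
      rw [Subgroup.map_le_iff_le_comap, Subgroup.closure_le]
      rintro a (rfl | rfl)
      · exact h1
      · exact h2
    exact hle ⟨a, ha, rfl⟩
  have hzA : z ∈ A := Subgroup.subset_closure (Or.inl rfl)
  have hyA : y ∈ A := Subgroup.subset_closure (Or.inr rfl)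
  have hPL : (P : Subgroup G) ≤ L := by
    intro t ht
    refine Subgroup.mem_inf.mpr ⟨Subgroup.mem_centralizer_singleton_iff.mpr (hzcomm t ht).eq,
      hAmem ?_ ?_⟩
    · rw [(hzcomm t ht).eq, mul_inv_cancel_right]; exact hzA
    · rcases hcosets y hy t ht with h | h | h <;> rw [h]
      · exact hyA
      · exact mul_mem hyA hzA
      · exact mul_mem hyA (pow_mem hzA 2)
  have hsN : s ∈ Subgroup.normalizer (A : Set G) :=
    hAmem (hsz ▸ inv_mem hzA) (hsy ▸ inv_mem hyA)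
  have hsPL : ((s • P : Sylow 3 G) : Subgroup G) ≤ L := by
    rw [Sylow.coe_subgroup_smul]
    rintro _ ⟨t, ht, rfl⟩
    show s * t * s⁻¹ ∈ L
    obtain ⟨h1, h2⟩ := Subgroup.mem_inf.mp (hPL ht)
    refine Subgroup.mem_inf.mpr ⟨Subgroup.mem_centralizer_singleton_iff.mpr ?_,
      mul_mem (mul_mem hsN h2) (inv_mem hsN)⟩
    have hz' : s * z⁻¹ * s⁻¹ = z := by
      rw [show s * z⁻¹ * s⁻¹ = (s * z * s⁻¹)⁻¹ by group, hsz, inv_inv]
    have hc2 : Commute (s * t * s⁻¹) (s * z⁻¹ * s⁻¹) :=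
      (hzcomm t ht).inv_right.map (MulAut.conj s).toMonoidHom
    rw [hz'] at hc2
    exact hc2.eq
  obtain ⟨l, hl⟩ := MulAction.exists_smul_eq L ((s • P).subtype hsPL) (P.subtype hPL)
  have hfin : ∀ t ∈ (P : Subgroup G), ((l : G) * s) * t * ((l : G) * s)⁻¹ ∈ (P : Subgroup G) := by
    intro t ht
    have hmem : (⟨(l : G) * (s * t * s⁻¹) * (l : G)⁻¹,
        mul_mem (mul_mem l.2 (hsPL (by rw [Sylow.coe_subgroup_smul]; exact ⟨t, ht, rfl⟩)))
          (inv_mem l.2)⟩ : L) ∈ (P.subtype hPL : Subgroup L) := by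
      rw [← hl, Sylow.coe_subgroup_smul]
      refine ⟨⟨s * t * s⁻¹, hsPL (by rw [Sylow.coe_subgroup_smul]; exact ⟨t, ht, rfl⟩)⟩, ?_,
        Subtype.ext rfl⟩
      show s * t * s⁻¹ ∈ ((s • P : Sylow 3 G) : Subgroup G)
      rw [Sylow.coe_subgroup_smul]
      exact ⟨t, ht, rfl⟩
    rw [Sylow.coe_subtype, Subgroup.mem_subgroupOf] at hmem
    convert hmem using 1
    group
  have hN : (l : G) * s ∈ Subgroup.normalizer ((P : Subgroup G) : Set G) :=
    Subgroup.mem_normalizer_fintype hfin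
  have h1 := hNC _ hN z hzP fun u hu => (hzcomm u hu).eq.symm
  have hlz : (l : G) * z = z * l :=
    Subgroup.mem_centralizer_singleton_iff.mp (Subgroup.mem_inf.mp l.2).1
  have h2 : z = z⁻¹ := by
    calc z = (l : G) * s * z * ((l : G) * s)⁻¹ := eq_mul_inv_of_mul_eq h1.symm
      _ = (l : G) * (s * z * s⁻¹) * (l : G)⁻¹ := by group
      _ = ((l : G) * z * (l : G)⁻¹)⁻¹ := by rw [hsz]; group
      _ = z⁻¹ := by rw [hlz, mul_inv_cancel_right]
  have hdvd : orderOf z ∣ 2 := orderOf_dvd_of_pow_eq_one (by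
    rw [pow_two]; conv_lhs => arg 2; rw [h2]
    exact mul_inv_cancel z)
  rw [hzord] at hdvd
  norm_num at hdvd

end CfsgLib.Block.ExtraThree
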