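import Cfsg.Agent.Lib.Block.ExtraThree.Totals
import Cfsg.Agent.Lib.Spor.CoTwoInv.Transfer

/-!
# The rank of the principal block of the centralizer of `z`
-/

set_option autoImplicit false
set_option linter.unusedSectionVars false

open Finset
open scoped ComplexConjugate Classical

namespace CfsgLib.Block.ExtraThree

open Cfsg CfsgLib CfsgLib.Block

universe u

variable {G : Type u} [Group G] [Fintype G] [DecidableEq G]

/-- The Sylow subgroup inside the centralizer of `z`. -/
noncomputable def sylowC {P : Sylow 3 G} {z : G} (F : Frame P z) :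
    Sylow 3 (Subgroup.centralizer ({z} : Set G)) := P.subtype F.le_centralizer_z

theorem mem_sylowC {P : Sylow 3 G} {z : G} (F : Frame P z)
    {u : Subgroup.centralizer ({z} : Set G)} :
    u ∈ (sylowC F : Subgroup (Subgroup.centralizer ({z} : Set G))) ↔ (u : G) ∈ (P : Subgroup G) := by
  rw [sylowC, Sylow.coe_subtype, Subgroup.mem_subgroupOf]

/-- `z` inside its centralizer. -/
def zC (z : G) : Subgroup.centralizer ({z} : Set G) :=
  ⟨z, Subgroup.mem_centralizer_singleton_iff.mpr rfl⟩

omit [Fintype G] [DecidableEq G] in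
theorem mem_zpowers_zC {z : G} {u : Subgroup.centralizer ({z} : Set G)} :
    u ∈ Subgroup.zpowers (zC z) ↔ (u : G) ∈ Subgroup.zpowers z := by
  rw [Subgroup.mem_zpowers_iff, Subgroup.mem_zpowers_iff]
  exact exists_congr fun i => by rw [Subtype.ext_iff, SubgroupClass.coe_zpow]; rfl

variable {P : Sylow 3 G} {z : G} {m : ℕ}

theorem frameC (F : Frame P z) : Frame (sylowC F) (zC z) where
  card := by
    rw [sylowC, Sylow.coe_subtype,
      Nat.card_congr (Subgroup.subgroupOfEquivOfLe F.le_centralizer_z).toEquiv, F.card]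
  exp u hu := Subtype.ext (by simpa using F.exp _ ((mem_sylowC F).mp hu))
  mem := (mem_sylowC F).mpr F.mem
  ne e := F.ne (congrArg Subtype.val e)
  central u hu := Subtype.ext (F.central _ ((mem_sylowC F).mp hu)).eq
  comm a ha hna := by
    obtain ⟨w, hw, e⟩ := F.comm _ ((mem_sylowC F).mp ha) fun h => hna (mem_zpowers_zC.mpr h)
    exact ⟨⟨w, F.le_centralizer_z hw⟩, (mem_sylowC F).mpr hw, Subtype.ext e⟩
  cosets a ha u hu := by
    rcases F.cosets _ ((mem_sylowC F).mp ha) _ ((mem_sylowC F).mp hu) with h | h | h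
    · exact Or.inl (Subtype.ext h)
    · exact Or.inr (Or.inl (Subtype.ext h))
    · exact Or.inr (Or.inr (Subtype.ext (by simpa [zC] using h)))
  isolated g hg := Subtype.ext (F.isolated g ((mem_sylowC F).mp hg))

/-- The data inside the centralizer of `z`. -/
def dataC (D : Data P z m) : Data (sylowC D.frame) (zC z) m where
  frame := frameC D.frame
  x j := ⟨D.x j, D.frame.le_centralizer_z (D.mem j)⟩
  mem j := (mem_sylowC D.frame).mpr (D.mem j)
  out j h := D.out j (mem_zpowers_zC.mp h)
  distinct i j h := D.distinct i j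
    (MonoidHom.map_isConj (Subgroup.centralizer ({z} : Set G)).subtype h)
  cover a ha hna := by
    obtain ⟨j, hj⟩ := D.cover _ ((mem_sylowC D.frame).mp ha) fun h => hna (mem_zpowers_zC.mpr h)
    obtain ⟨g, hg⟩ := isConj_iff.mp hj
    obtain ⟨c, hc, e, -⟩ := D.frame.fusion_centralizer ((mem_sylowC D.frame).mp ha)
      (fun h => hna (mem_zpowers_zC.mpr h)) (D.mem j) hg
    exact ⟨j, isConj_iff.mpr ⟨⟨c, Subgroup.mem_centralizer_singleton_iff.mpr hc.eq⟩, Subtype.ext e⟩⟩
  real a ha hna := by
    obtain ⟨g, hg⟩ := isConj_iff.mp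
      (D.real _ ((mem_sylowC D.frame).mp ha) fun h => hna (mem_zpowers_zC.mpr h))
    obtain ⟨c, hc, e, -⟩ := D.frame.fusion_centralizer ((mem_sylowC D.frame).mp ha)
      (fun h => hna (mem_zpowers_zC.mpr h)) (inv_mem ((mem_sylowC D.frame).mp ha)) hg
    exact isConj_iff.mpr ⟨⟨c, Subgroup.mem_centralizer_singleton_iff.mpr hc.eq⟩, Subtype.ext e⟩

variable [Fintype (IrrCharacter G)] {M : Ideal AlgInt} [M.IsMaximal]

/-- The principal block of the centralizer of `z` has rank at least `6 - m`. -/
theorem six_le_centralRank (S : Setting M P z m) (hE : IsExtraspecial 3 ↥(P : Subgroup G))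
    [NeZero m] : 6 ≤ S.centralRank + m := by
  set C := Subgroup.centralizer ({z} : Set G) with hCdef
  have := Fintype.ofFinite C
  have := Fintype.ofFinite (IrrCharacter C)
  have hE' : IsExtraspecial 3 ↥(sylowC S.data.frame : Subgroup C) :=
    Spor.CoTwoInv.isExtraspecial_of_equiv
      (Subgroup.subgroupOfEquivOfLe S.data.frame.le_centralizer_z).symm hE
  obtain ⟨T⟩ := exists_setting S.hM (dataC S.data) hE'
  have hzc : ∀ t : C, Commute (zC z) t := fun t =>
    Subtype.ext (Subgroup.mem_centralizer_singleton_iff.mp t.2).symm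
  have hker : ∀ η ∈ T.zeroRows, ∀ t : C, (η : C → ℂ) (zC z * t) = (η : C → ℂ) t := by
    intro η hη
    obtain ⟨l, -, hl⟩ := exists_central_scalar η hzc (n := 3) T.data.frame.z_cube
    obtain ⟨w, -, hw⟩ := T.data.frame.comm _ (T.data.mem 0) (T.data.out 0)
    have hv : (η : C → ℂ) (T.data.x 0) = l * (η : C → ℂ) (T.data.x 0) := by
      conv_lhs => rw [← Char.isClassFunction_irr η (T.data.x 0) w, hw, ← (hzc _).eq, hl]
    have hne : (η : C → ℂ) (T.data.x 0) ≠ 0 := by
      rw [← T.coe_col, Int.cast_ne_zero]
      rcases T.columns.entry hη 0 with h | h | h | h <;> rw [h] <;> norm_num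
    have hl1 : l = 1 := (mul_eq_right₀ hne).mp hv.symm
    intro t
    rw [hl, hl1, one_mul]
  let H := T.zeroRows
  let L : (H → ℂ) →ₗ[ℂ] (C → ℂ) :=
    Fintype.linearCombination ℂ (fun η : H => pRegularPart 3 ((η : IrrCharacter C) : C → ℂ))
  let X : (H → ℂ) →ₗ[ℂ] (Fin m → ℂ) :=
    Fintype.linearCombination ℂ (fun η : H => fun j => ((η : IrrCharacter C) : C → ℂ) (T.data.x j))
  have hinj : Function.Injective (X.domRestrict (LinearMap.ker L)) := by
    rw [← LinearMap.ker_eq_bot, LinearMap.ker_eq_bot']
    rintro ⟨a, ha⟩ hX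
    rw [LinearMap.mem_ker] at ha
    have hX' : ∀ j, ∑ η : H, a η * ((η : IrrCharacter C) : C → ℂ) (T.data.x j) = 0 := fun j => by
      have h := congrFun hX j
      simpa [X, LinearMap.domRestrict_apply, Fintype.linearCombination_apply] using h
    have hreg : ∀ y : C, ¬ 3 ∣ orderOf y → ∑ η : H, a η * ((η : IrrCharacter C) : C → ℂ) y = 0 := by
      intro y hy
      have h := congrFun ha y
      simpa [L, Fintype.linearCombination_apply, pRegularPart, IsPRegular, hy] using h
    have hker2 : ∀ (η : H) (t : C), ((η : IrrCharacter C) : C → ℂ) (zC z ^ 2 * t) =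
        ((η : IrrCharacter C) : C → ℂ) t := fun η t => by
      rw [pow_two, mul_assoc, hker _ η.2, hker _ η.2]
    have hall : ∀ g : C, ∑ η : H, a η * ((η : IrrCharacter C) : C → ℂ) g = 0 := by
      intro g
      obtain ⟨y, hy, -, hreg', -, -⟩ := T.pow_eq g
      rcases T.classify g with h | h | h | ⟨j, hj⟩
      · exact hreg g (T.pt_regular h)
      · have e : T.pt g = zC z := by
          obtain ⟨c, hc⟩ := isConj_iff.mp h
          rw [← hc, ← (hzc c).eq, mul_inv_cancel_right]
        rw [sum_congr rfl fun η _ => by rw [hy, e, hker _ η.2]]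
        exact hreg y hreg'
      · have e : T.pt g = zC z ^ 2 := by
          obtain ⟨c, hc⟩ := isConj_iff.mp h
          rw [← hc, ← ((hzc c).pow_left 2).eq, mul_inv_cancel_right]
        rw [sum_congr rfl fun η _ => by rw [hy, e, hker2]]
        exact hreg y hreg'
      · rw [sum_congr rfl fun η _ => by
          rw [T.value_x (mem_filter.mp η.2).1 hj]]
        exact hX' j
    have hli := (Char.linearIndependent_irr (G := C)).comp (fun η : H => (η : IrrCharacter C))
      Subtype.val_injective
    refine Subtype.ext (funext fun η => ?_)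
    exact Fintype.linearIndependent_iff.mp hli a (funext fun g => by
      simpa [Finset.sum_apply] using hall g) η
  have h1 : Module.finrank ℂ (LinearMap.ker L) ≤ m := by
    have h := LinearMap.finrank_le_finrank_of_injective hinj
    simpa using h
  have h2 : Module.finrank ℂ (LinearMap.range L) ≤ S.centralRank := by
    rw [Setting.centralRank, blockRank]
    refine Submodule.finrank_mono ?_
    rintro _ ⟨a, rfl⟩
    rw [Fintype.linearCombination_apply]
    exact Submodule.sum_mem _ fun η _ => Submodule.smul_mem _ _ (Submodule.subset_span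
      ⟨η, T.mem_blk.mp (mem_filter.mp η.2).1, rfl⟩)
  have h3 := L.finrank_range_add_finrank_ker
  rw [Module.finrank_fintype_fun_eq_card, Fintype.card_coe] at h3
  have h4 : 6 ≤ H.card := by rcases T.columns.card_cases with h | h <;> simp only [H, Setting.zeroRows] <;> omega
  omega

end CfsgLib.Block.ExtraThree
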