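import Cfsg.Agent.Lib.Block.ExtraThree.Fusion
import Cfsg.Agent.Lib.Char.Degree
import Cfsg.Agent.Lib.Block.Defect

/-!
# The classes of non-central elements of an extraspecial Sylow subgroup of order 27

With inertial index `e` the non-central elements fall into `8 / e` classes, which are real for
even `e`; for `e = 1` there is a normal 3-complement.
-/

set_option autoImplicit false
set_option linter.unusedSectionVars false

namespace CfsgLib.Block.ExtraThree

open Cfsg

universe u

variable {G : Type u} [Group G] [Finite G]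

/-- The classes of the non-central elements of `P`: `m` real classes with representatives `x`. -/
structure Data (P : Sylow 3 G) (z : G) (m : ℕ) where
  frame : Frame P z
  x : Fin m → G
  mem : ∀ j, x j ∈ (P : Subgroup G)
  out : ∀ j, x j ∉ Subgroup.zpowers z
  distinct : ∀ i j, IsConj (x i) (x j) → i = j
  cover : ∀ a ∈ (P : Subgroup G), a ∉ Subgroup.zpowers z → ∃ j, IsConj a (x j)
  real : ∀ a ∈ (P : Subgroup G), a ∉ Subgroup.zpowers z → IsConj a a⁻¹

variable {P : Sylow 3 G} {z : G}

/-- The normalizer of `P`. -/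
abbrev NP (P : Sylow 3 G) : Subgroup G := Subgroup.normalizer ((P : Subgroup G) : Set G)

/-- `P C(P)`. -/
abbrev PCP (P : Sylow 3 G) : Subgroup G :=
  (P : Subgroup G) ⊔ Subgroup.centralizer ((P : Subgroup G) : Set G)

theorem PCP_le : PCP P ≤ NP P := sup_le Subgroup.le_normalizer (Subgroup.centralizer_le_normalizer _)

theorem normal_PCP (P : Sylow 3 G) : ((PCP P).subgroupOf (NP P)).Normal := by
  refine ⟨fun k hk n => ?_⟩
  rw [Subgroup.mem_subgroupOf] at hk ⊢
  have hle : (PCP P).map (MulAut.conj (n : G)).toMonoidHom ≤ PCP P := by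
    rw [Subgroup.map_sup]
    refine sup_le_sup ?_ ?_
    · rintro _ ⟨t, ht, rfl⟩
      exact (Subgroup.mem_normalizer_iff.mp n.2 t).mp ht
    · rintro _ ⟨t, ht, rfl⟩
      refine Subgroup.mem_centralizer_iff.mpr fun w hw => ?_
      have hw' : (n : G)⁻¹ * w * n ∈ (P : Subgroup G) := by
        have h := (Subgroup.mem_normalizer_iff.mp (inv_mem n.2) w).mp hw
        rwa [inv_inv] at h
      have h := Subgroup.mem_centralizer_iff.mp ht _ hw'
      show w * ((n : G) * t * (n : G)⁻¹) = (n : G) * t * (n : G)⁻¹ * w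
      calc w * ((n : G) * t * (n : G)⁻¹) = (n : G) * ((n : G)⁻¹ * w * n * t) * (n : G)⁻¹ := by group
        _ = _ := by rw [h]; group
  exact hle ⟨k, hk, rfl⟩

namespace Frame

variable (F : Frame P z)
include F

theorem PCP_coset {a : G} (ha : a ∈ (P : Subgroup G)) {k : G} (hk : k ∈ PCP P) :
    a⁻¹ * (k * a * k⁻¹) ∈ Subgroup.zpowers z := by
  have hle : PCP P ≤ F.cosetStab a := by
    refine sup_le (fun t ht => ⟨F.central t ht, ?_⟩) fun t ht =>
      ⟨(Subgroup.mem_centralizer_iff.mp ht z F.mem).symm, 1, one_mem _, ?_⟩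
    · rcases F.cosets a ha t ht with h | h | h
      · exact ⟨1, one_mem _, by rw [h, mul_one]⟩
      · exact ⟨z, Subgroup.mem_zpowers z, h⟩
      · exact ⟨z ^ 2, Subgroup.npow_mem_zpowers z 2, h⟩
    · rw [mul_one, ← Subgroup.mem_centralizer_iff.mp ht a ha, mul_inv_cancel_right]
  obtain ⟨-, u, hu, e⟩ := hle hk
  rw [e, inv_mul_cancel_left]
  exact hu

theorem commute_normalizer {n : G} (hn : n ∈ NP P) : Commute n z :=
  mul_inv_eq_iff_eq_mul.mp (F.isolated n ((Subgroup.mem_normalizer_iff.mp hn z).mp F.mem))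

theorem not_dvd_index_PCP : ¬ 3 ∣ ((PCP P).subgroupOf (NP P)).index := by
  have : Fact (Nat.Prime 3) := ⟨Nat.prime_three⟩
  intro h
  refine (P.subtype (Subgroup.le_normalizer : (P : Subgroup G) ≤ NP P)).not_dvd_index
    (h.trans (Subgroup.index_dvd_of_le ?_))
  intro t ht
  rw [Sylow.coe_subtype, Subgroup.mem_subgroupOf] at ht
  exact Subgroup.mem_subgroupOf.mpr (Subgroup.mem_sup_left ht)

/-- `N_P / P C(P)` acts freely on the non-trivial elements of `P / Z`. -/
theorem mem_PCP_of_coset {a : G} (ha : a ∈ (P : Subgroup G)) (hna : a ∉ Subgroup.zpowers z) {n : G}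
    (hn : n ∈ NP P) (h : a⁻¹ * (n * a * n⁻¹) ∈ Subgroup.zpowers z) : n ∈ PCP P := by
  obtain ⟨w, hw, hwe⟩ := F.coset_conj ha hna h
  rw [mul_inv_cancel_left] at hwe
  -- reduce to an element fixing `a`
  have hwP : w⁻¹ ∈ PCP P := Subgroup.mem_sup_left (inv_mem hw)
  set k := w⁻¹ * n with hk
  have hkN : k ∈ NP P := mul_mem (inv_mem (Subgroup.le_normalizer hw)) hn
  have hka : k * a * k⁻¹ = a := by
    calc k * a * k⁻¹ = w⁻¹ * (n * a * n⁻¹) * w := by rw [hk]; group
      _ = a := by rw [← hwe]; group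
  have hkz := F.commute_normalizer hkN
  suffices hkP : k ∈ PCP P by
    have := mul_mem (Subgroup.mem_sup_left hw : w ∈ PCP P) hkP
    rwa [hk, mul_inv_cancel_left] at this
  have hcube : k ^ 3 ∈ Subgroup.centralizer ((P : Subgroup G) : Set G) := by
    refine Subgroup.mem_centralizer_iff.mpr fun y hy => ?_
    have hy' : k * y * k⁻¹ ∈ (P : Subgroup G) := (Subgroup.mem_normalizer_iff.mp hkN y).mp hy
    set v := k * y * k⁻¹ * y⁻¹ with hv
    have hvP : v ∈ (P : Subgroup G) := mul_mem hy' (inv_mem hy)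
    have hva : Commute v a := by
      obtain ⟨u, hu, hue⟩ : ∃ u ∈ Subgroup.zpowers z, y * a * y⁻¹ = a * u := by
        rcases F.cosets a ha y hy with e | e | e
        · exact ⟨1, one_mem _, by rw [e, mul_one]⟩
        · exact ⟨z, Subgroup.mem_zpowers z, e⟩
        · exact ⟨z ^ 2, Subgroup.npow_mem_zpowers z 2, e⟩
      obtain ⟨i, rfl⟩ := Subgroup.mem_zpowers_iff.mp hu
      have e1 : k * y * k⁻¹ * a * (k * y * k⁻¹)⁻¹ = a * z ^ i := by
        calc k * y * k⁻¹ * a * (k * y * k⁻¹)⁻¹ = k * (y * (k⁻¹ * a * k) * y⁻¹) * k⁻¹ := by group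
          _ = k * (y * a * y⁻¹) * k⁻¹ := by
            rw [show k⁻¹ * a * k = a by conv_lhs => rw [← hka]
                                        group]
          _ = k * a * k⁻¹ * (k * z ^ i * k⁻¹) := by rw [hue]; group
          _ = a * z ^ i := by rw [hka, (hkz.zpow_right i).eq, mul_inv_cancel_right]
      have e2 : v * (a * z ^ i) * v⁻¹ = a * z ^ i := by
        calc v * (a * z ^ i) * v⁻¹ = v * (y * a * y⁻¹) * v⁻¹ := by rw [hue]
          _ = k * y * k⁻¹ * a * (k * y * k⁻¹)⁻¹ := by rw [hv]; group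
          _ = a * z ^ i := e1
      have e3 : v * z ^ i * v⁻¹ = z ^ i := by
        rw [((F.central v hvP).zpow_right i).eq, mul_inv_cancel_right]
      have e4 : v * a * v⁻¹ * (v * z ^ i * v⁻¹) = a * z ^ i := by rw [← e2]; group
      rw [e3] at e4
      exact mul_inv_eq_iff_eq_mul.mp (mul_right_cancel e4)
    have hkv : Commute k v := F.commute_centP ha hna
      (mul_inv_eq_iff_eq_mul.mp hka) hkz (mem_centP.mpr ⟨hva, hvP⟩)
    have hstep : k * y = v * y * k := by rw [hv]; group
    have hstep2 : k * (k * y) = v * v * y * (k * k) := by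
      calc k * (k * y) = k * v * y * k := by rw [hstep]; group
        _ = v * (k * y) * k := by rw [hkv.eq]; group
        _ = v * v * y * (k * k) := by rw [hstep]; simp only [mul_assoc]
    have h3 : k ^ 3 * y = v ^ 3 * y * k ^ 3 := by
      simp only [pow_succ, pow_zero, one_mul]
      calc k * k * k * y = k * (k * (k * y)) := by simp only [mul_assoc]
        _ = k * v * (v * y * (k * k)) := by rw [hstep2]; simp only [mul_assoc]
        _ = k * v * v * (y * (k * k)) := by simp only [mul_assoc]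
        _ = v * k * v * (y * (k * k)) := by rw [hkv.eq]
        _ = v * (k * v) * (y * (k * k)) := by simp only [mul_assoc]
        _ = v * (v * k) * (y * (k * k)) := by rw [hkv.eq]
        _ = v * v * (k * y) * (k * k) := by simp only [mul_assoc]
        _ = v * v * v * y * (k * k * k) := by rw [hstep]; simp only [mul_assoc]
    rw [h3, F.exp v hvP, one_mul]
  have := normal_PCP P
  set K := (PCP P).subgroupOf (NP P)
  have hq3 : ((⟨k, hkN⟩ : NP P) : NP P ⧸ K) ^ 3 = 1 := by
    rw [← QuotientGroup.mk_pow, QuotientGroup.eq_one_iff]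
    exact Subgroup.mem_subgroupOf.mpr (Subgroup.mem_sup_right hcube)
  have hcop : Nat.Coprime 3 (Nat.card (NP P ⧸ K)) :=
    Nat.prime_three.coprime_iff_not_dvd.mpr F.not_dvd_index_PCP
  have h1 : ((⟨k, hkN⟩ : NP P) : NP P ⧸ K) = 1 := orderOf_eq_one_iff.mp
    (Nat.eq_one_of_dvd_coprimes hcop (orderOf_dvd_of_pow_eq_one hq3) (orderOf_dvd_natCard _))
  exact Subgroup.mem_subgroupOf.mp ((QuotientGroup.eq_one_iff _).mp h1)

/-- The class of a non-central element meets `P` in `3 e` elements. -/
theorem card_class {e : ℕ} (he : (PCP P).relIndex (NP P) = e) {a : G} (ha : a ∈ (P : Subgroup G))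
    (hna : a ∉ Subgroup.zpowers z) :
    Nat.card {b : G // b ∈ (P : Subgroup G) ∧ IsConj a b} = 3 * e := by
  set N := NP P
  set K := (PCP P).subgroupOf N with hK
  let a' : N := ⟨a, Subgroup.le_normalizer ha⟩
  have haK : a' ∈ K := Subgroup.mem_subgroupOf.mpr (Subgroup.mem_sup_left ha)
  let a'' : K := ⟨a', haK⟩
  have h1 : Nat.card {b : G // b ∈ (P : Subgroup G) ∧ IsConj a b} =
      Nat.card {b : N // IsConj a' b} := by
    symm
    refine Nat.card_congr (Equiv.ofBijective (fun b => ⟨((b.1 : N) : G), ?_, ?_⟩) ⟨?_, ?_⟩)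
    · obtain ⟨n, hn⟩ := isConj_iff.mp b.2
      rw [← hn]
      exact (Subgroup.mem_normalizer_iff.mp n.2 a).mp ha
    · exact MonoidHom.map_isConj N.subtype b.2
    · intro b c h
      simp only [Subtype.mk.injEq] at h
      exact Subtype.ext (Subtype.ext h)
    · rintro ⟨b, hb, hab⟩
      obtain ⟨g, hg⟩ := isConj_iff.mp hab
      obtain ⟨n, hn, hne⟩ := F.fusion ha hna hb hg
      exact ⟨⟨⟨b, Subgroup.le_normalizer hb⟩, isConj_iff.mpr ⟨⟨n, hn⟩, Subtype.ext hne⟩⟩, rfl⟩
  have hle : Subgroup.centralizer ({a'} : Set N) ≤ K := fun n hn =>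
    Subgroup.mem_subgroupOf.mpr (F.mem_PCP_of_coset ha hna n.2 (by
      have e1 : (n : G) * a = a * n :=
        congrArg Subtype.val (Subgroup.mem_centralizer_singleton_iff.mp hn)
      rw [e1, mul_inv_cancel_right, inv_mul_cancel]
      exact one_mem _))
  have hcent : (Subgroup.centralizer ({a'} : Set N)).subgroupOf K =
      Subgroup.centralizer ({a''} : Set K) := by
    ext k
    rw [Subgroup.mem_subgroupOf, Subgroup.mem_centralizer_singleton_iff,
      Subgroup.mem_centralizer_singleton_iff]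
    exact ⟨fun h => Subtype.ext h, fun h => congrArg Subtype.val h⟩
  have h2 : Nat.card {b : K // IsConj a'' b} = 3 := by
    rw [← F.card_Z]
    symm
    refine Nat.card_congr (Equiv.ofBijective
      (fun u => ⟨⟨⟨a * u, Subgroup.le_normalizer (mul_mem ha (F.Z_le u.2))⟩,
        Subgroup.mem_subgroupOf.mpr (Subgroup.mem_sup_left (mul_mem ha (F.Z_le u.2)))⟩, ?_⟩)
      ⟨?_, ?_⟩)
    · obtain ⟨w, hw, hwe⟩ := F.coset_conj ha hna u.2
      exact isConj_iff.mpr ⟨⟨⟨w, Subgroup.le_normalizer hw⟩,
        Subgroup.mem_subgroupOf.mpr (Subgroup.mem_sup_left hw)⟩, Subtype.ext (Subtype.ext hwe)⟩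
    · intro u v h
      simp only [Subtype.mk.injEq, mul_right_inj] at h
      exact Subtype.ext h
    · rintro ⟨b, hb⟩
      obtain ⟨k, hk⟩ := isConj_iff.mp hb
      have hk' : ((k : N) : G) * a * ((k : N) : G)⁻¹ = ((b : N) : G) :=
        congrArg (fun t : K => ((t : N) : G)) hk
      refine ⟨⟨a⁻¹ * ((b : N) : G), hk' ▸ F.PCP_coset ha (Subgroup.mem_subgroupOf.mp k.2)⟩, ?_⟩
      exact Subtype.ext (Subtype.ext (Subtype.ext (mul_inv_cancel_left a _)))
  rw [h1, Char.card_isConj, ← Subgroup.relIndex_mul_index hle]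
  have he' : K.index = e := he
  rw [he', Subgroup.relIndex, hcent, ← Char.card_isConj, h2]

theorem exists_complement_of_one (he : (PCP P).relIndex (NP P) = 1) :
    Cfsg.HasNormalPComplement 3 G :=
  F.complement_of_trivial fun _ ha _ hn => F.PCP_coset ha (Subgroup.relIndex_eq_one.mp he hn)

theorem card_out :
    Nat.card {a : G // a ∈ (P : Subgroup G) ∧ a ∉ Subgroup.zpowers z} = 24 := by
  classical
  have := Fintype.ofFinite G
  have hset : Finset.univ.filter (fun a : G => a ∈ (P : Subgroup G) ∧ a ∉ Subgroup.zpowers z) =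
      Finset.univ.filter (fun a : G => a ∈ (P : Subgroup G)) \
        Finset.univ.filter (fun a : G => a ∈ Subgroup.zpowers z) := by
    ext a; simp
  have hc : ∀ H : Subgroup G, (Finset.univ.filter (fun a : G => a ∈ H)).card = Nat.card H := by
    intro H
    rw [Nat.card_eq_fintype_card, ← Fintype.card_subtype]
  rw [Nat.card_eq_fintype_card, Fintype.card_subtype, hset,
    Finset.card_sdiff_of_subset fun a ha => by
      simp only [Finset.mem_filter, Finset.mem_univ, true_and] at ha ⊢
      exact F.Z_le ha,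
    hc, hc, F.card, F.card_Z]

theorem exists_data {e : ℕ} (he : (PCP P).relIndex (NP P) = e) (h2 : 2 ∣ e) :
    ∃ m, m * e = 8 ∧ Nonempty (Data P z m) := by
  classical
  have : Fact (Nat.Prime 2) := ⟨Nat.prime_two⟩
  have := normal_PCP P
  set N := NP P
  set K := (PCP P).subgroupOf N with hK
  obtain ⟨q, hq⟩ := exists_prime_orderOf_dvd_card' (G := N ⧸ K) 2
    (by
      rw [← Subgroup.index_eq_card, show K.index = e from he]
      exact h2)
  obtain ⟨n, rfl⟩ := QuotientGroup.mk_surjective q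
  have hnK : n ∉ K := fun h => by
    rw [(QuotientGroup.eq_one_iff n).mpr h, orderOf_one] at hq
    norm_num at hq
  have hn2 : n ^ 2 ∈ K := by
    rw [← QuotientGroup.eq_one_iff, QuotientGroup.mk_pow, ← hq, pow_orderOf_eq_one]
  have hreal : ∀ a ∈ (P : Subgroup G), a ∉ Subgroup.zpowers z → IsConj a a⁻¹ := by
    intro a ha hna
    set b := (n : G) * a * (n : G)⁻¹ with hb
    have hbP : b ∈ (P : Subgroup G) := (Subgroup.mem_normalizer_iff.mp n.2 a).mp ha
    obtain ⟨u, hu, hue⟩ : ∃ u ∈ Subgroup.zpowers z, (n : G) * b * (n : G)⁻¹ = a * u := by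
      refine ⟨_, F.PCP_coset ha (Subgroup.mem_subgroupOf.mp hn2), ?_⟩
      rw [mul_inv_cancel_left, hb, SubgroupClass.coe_pow, pow_two, mul_inv_rev]
      simp only [mul_assoc]
    obtain ⟨v, hv, hve⟩ : ∃ v ∈ Subgroup.zpowers z, b * a = a * b * v := by
      rcases F.cosets a ha b hbP with e | e | e
      · exact ⟨1, one_mem _, by rw [mul_one]; exact mul_inv_eq_iff_eq_mul.mp e⟩
      · exact ⟨z, Subgroup.mem_zpowers z, by
          rw [mul_assoc a b, (F.central b hbP).eq, ← mul_assoc]
          exact mul_inv_eq_iff_eq_mul.mp e⟩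
      · exact ⟨z ^ 2, Subgroup.npow_mem_zpowers z 2, by
          rw [mul_assoc a b, ((F.central b hbP).pow_right 2).eq, ← mul_assoc]
          exact mul_inv_eq_iff_eq_mul.mp e⟩
    have hab : a * b ∈ Subgroup.zpowers z := by
      by_contra hab
      refine hnK (Subgroup.mem_subgroupOf.mpr
        (F.mem_PCP_of_coset (mul_mem ha hbP) hab n.2 ?_))
      have e1 : (n : G) * (a * b) * (n : G)⁻¹ = a * b * (v * u) := by
        calc (n : G) * (a * b) * (n : G)⁻¹ =
            (n : G) * a * (n : G)⁻¹ * ((n : G) * b * (n : G)⁻¹) := by group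
          _ = b * (a * u) := by rw [hue]
          _ = a * b * (v * u) := by rw [← mul_assoc b a, hve, mul_assoc]
      rw [e1, inv_mul_cancel_left]
      exact mul_mem hv hu
    obtain ⟨w, hw, hwe⟩ := F.coset_conj (inv_mem ha)
      (fun h => hna (inv_mem_iff.mp h)) hab
    rw [inv_mul_cancel_left] at hwe
    refine IsConj.trans (b := b) (isConj_iff.mpr ⟨n, rfl⟩) ?_
    exact (isConj_iff.mpr ⟨w, hwe⟩).symm
  let Ω := {a : G // a ∈ (P : Subgroup G) ∧ a ∉ Subgroup.zpowers z}
  let r : Setoid Ω := (IsConj.setoid G).comap Subtype.val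
  have := Fintype.ofFinite Ω
  have := Fintype.ofFinite (Quotient r)
  let eq0 := Fintype.equivFin (Quotient r)
  refine ⟨Fintype.card (Quotient r), ?_, ⟨{
    frame := F
    x := fun j => ((eq0.symm j).out : Ω).1
    mem := fun j => ((eq0.symm j).out).2.1
    out := fun j => ((eq0.symm j).out).2.2
    distinct := fun i j h => eq0.symm.injective
      (by rw [← Quotient.out_eq (eq0.symm i), ← Quotient.out_eq (eq0.symm j)]; exact Quotient.sound h)
    cover := fun a ha hna => ⟨eq0 (Quotient.mk r ⟨a, ha, hna⟩), by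
      rw [Equiv.symm_apply_apply]
      exact (Quotient.mk_out (s := r) (⟨a, ha, hna⟩ : Ω)).symm⟩
    real := hreal }⟩⟩
  have hfib : ∀ q : Quotient r, Fintype.card {a : Ω // Quotient.mk r a = q} = 3 * e := by
    intro q
    induction q using Quotient.inductionOn with
    | h a =>
      rw [← F.card_class he a.2.1 a.2.2, ← Nat.card_eq_fintype_card]
      refine Nat.card_congr (Equiv.ofBijective
        (fun b => ⟨b.1.1, b.1.2.1, ((Quotient.exact b.2) : IsConj b.1.1 a.1).symm⟩) ⟨?_, ?_⟩)
      · intro b c h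
        simp only [Subtype.mk.injEq] at h
        exact Subtype.ext (Subtype.ext h)
      · rintro ⟨b, hb, hab⟩
        have hnb : b ∉ Subgroup.zpowers z := fun h => F.not_isConj a.2.1 a.2.2 h hab.symm
        exact ⟨⟨⟨b, hb, hnb⟩, Quotient.sound (show IsConj b a.1 from hab.symm)⟩, rfl⟩
  have htot : Fintype.card Ω = Fintype.card (Quotient r) * (3 * e) := by
    rw [← Fintype.card_congr (Equiv.sigmaFiberEquiv (Quotient.mk r)), Fintype.card_sigma,
      Finset.sum_congr rfl fun q _ => hfib q, Finset.sum_const, Finset.card_univ, smul_eq_mul]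
  rw [← Nat.card_eq_fintype_card, F.card_out] at htot
  linarith

end Frame

end CfsgLib.Block.ExtraThree
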