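import Mathlib.Algebra.BigOperators.Group.Finset.Basic
import Mathlib.Algebra.Order.BigOperators.Group.Finset
import Mathlib.Data.Int.ModEq
import Mathlib.Tactic

/-!
# Integral columns of norm nine

Orthogonal integral columns of norm 9 congruent to the degrees modulo 3.
-/

set_option autoImplicit false

open Finset

namespace CfsgLib.Block.ExtraThree

variable {ι : Type*} [DecidableEq ι] {m : ℕ}

/-- Integral columns congruent to the degrees. -/
structure Columns (s : Finset ι) (one : ι) (f : ι → ℤ) (d : ι → Fin m → ℤ) : Prop where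
  mem : one ∈ s
  f_one : f one = 1
  d_one : ∀ j, d one j = 1
  cong : ∀ χ ∈ s, ∀ j, (3 : ℤ) ∣ d χ j - f χ
  norm : ∀ j, ∑ χ ∈ s, d χ j * d χ j = 9
  orth : ∀ i j, i ≠ j → ∑ χ ∈ s, d χ i * d χ j = 0
  deg : ∀ j, ∑ χ ∈ s, f χ * d χ j = 0

variable {s : Finset ι} {one : ι} {f : ι → ℤ} {d : ι → Fin m → ℤ}

/-- The rows with `f` prime to 3. -/
def hrows (s : Finset ι) (f : ι → ℤ) : Finset ι := s.filter fun χ => ¬ (3 : ℤ) ∣ f χ

/-- The rows with a doubled entry in column `j`. -/
def dbl (s : Finset ι) (f : ι → ℤ) (d : ι → Fin m → ℤ) (j : Fin m) : Finset ι :=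
  (hrows s f).filter fun χ => d χ j * d χ j = 4

namespace Columns

variable (K : Columns s one f d)
include K

theorem one_hrow : one ∈ hrows s f := mem_filter.mpr ⟨K.mem, by rw [K.f_one]; norm_num⟩

theorem le_eight {χ : ι} (hχ : χ ∈ s) (hne : χ ≠ one) (j : Fin m) : d χ j * d χ j ≤ 8 := by
  have h := Finset.sum_le_sum_of_subset_of_nonneg (f := fun θ => d θ j * d θ j)
    (show ({χ, one} : Finset ι) ⊆ s from by
      intro θ hθ
      rcases mem_insert.mp hθ with rfl | hθ
      · exact hχ
      · exact mem_singleton.mp hθ ▸ K.mem) fun θ _ _ => mul_self_nonneg _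
  rw [K.norm, sum_insert (by simp [hne]), sum_singleton, K.d_one] at h
  linarith

theorem eq_zero {χ : ι} (hχ : χ ∈ s) (h3 : (3 : ℤ) ∣ f χ) (j : Fin m) : d χ j = 0 := by
  have hne : χ ≠ one := fun e => by rw [e, K.f_one] at h3; norm_num at h3
  obtain ⟨a, ha⟩ : (3 : ℤ) ∣ d χ j := by
    have := K.cong χ hχ j
    omega
  have h := K.le_eight hχ hne j
  rw [ha] at h ⊢
  by_contra hne0
  have : 1 ≤ a * a := by
    rcases lt_or_gt_of_ne (show a ≠ 0 by simpa using hne0) with h' | h' <;> nlinarith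
  nlinarith

theorem entry {χ : ι} (hχ : χ ∈ hrows s f) (j : Fin m) :
    d χ j = 1 ∨ d χ j = -1 ∨ d χ j = 2 ∨ d χ j = -2 := by
  obtain ⟨hs, h3⟩ := mem_filter.mp hχ
  by_cases hne : χ = one
  · exact Or.inl (hne ▸ K.d_one j)
  have h := K.le_eight hs hne j
  have hc := K.cong χ hs j
  have h1 : -3 < d χ j := by nlinarith
  have h2 : d χ j < 3 := by nlinarith
  omega

theorem sum_hrows (F : ι → ℤ) (j : Fin m) (hF : ∀ χ ∈ s, d χ j = 0 → F χ = 0) :
    ∑ χ ∈ s, F χ = ∑ χ ∈ hrows s f, F χ := by
  refine (Finset.sum_subset (filter_subset _ _) fun χ hχ hn => hF χ hχ ?_).symm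
  exact K.eq_zero hχ (by by_contra h; exact hn (mem_filter.mpr ⟨hχ, h⟩)) j

theorem card_add (j : Fin m) : ((hrows s f).card : ℤ) + 3 * (dbl s f d j).card = 9 := by
  have h := K.norm j
  rw [K.sum_hrows _ j (fun χ _ e => by rw [e, mul_zero]),
    sum_congr rfl (g := fun χ => 1 + 3 * (if d χ j * d χ j = 4 then (1 : ℤ) else 0)) fun χ hχ => by
      rcases K.entry hχ j with e | e | e | e <;> rw [e] <;> norm_num,
    sum_add_distrib, ← mul_sum, sum_boole, sum_const] at h
  simpa [dbl] using h

theorem dbl_le (j : Fin m) : (dbl s f d j).card ≤ 1 := by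
  have h := K.card_add j
  have hlt : (dbl s f d j).card < (hrows s f).card := Finset.card_lt_card
    ⟨filter_subset _ _, fun hsub => by
      have := (mem_filter.mp (hsub K.one_hrow)).2
      rw [K.d_one] at this
      norm_num at this⟩
  by_contra hcon
  have h2 : (dbl s f d j).card = 2 := by omega
  have h3 : (hrows s f).card = 3 := by omega
  -- three rows: the trivial one and two doubled ones
  have heq : (hrows s f).erase one = dbl s f d j := by
    refine (Finset.eq_of_subset_of_card_le ?_ (by rw [card_erase_of_mem K.one_hrow, h2, h3])).symm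
    intro χ hχ
    refine mem_erase.mpr ⟨fun e => ?_, (mem_filter.mp hχ).1⟩
    have := (mem_filter.mp hχ).2
    rw [e, K.d_one] at this
    norm_num at this
  have hd := K.deg j
  rw [K.sum_hrows _ j (fun χ _ e => by rw [e, mul_zero]), ← add_sum_erase _ _ K.one_hrow, heq,
    K.f_one, K.d_one] at hd
  have h2d : (2 : ℤ) ∣ ∑ χ ∈ dbl s f d j, f χ * d χ j := Finset.dvd_sum fun χ hχ => by
    rcases K.entry (mem_filter.mp hχ).1 j with e | e | e | e
    · exact absurd (mem_filter.mp hχ).2 (by rw [e]; norm_num)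
    · exact absurd (mem_filter.mp hχ).2 (by rw [e]; norm_num)
    · rw [e]; exact dvd_mul_left 2 _
    · rw [e]; exact Dvd.dvd.mul_left ⟨-1, by norm_num⟩ _
  omega

theorem card_cases [NeZero m] : (hrows s f).card = 6 ∨ (hrows s f).card = 9 := by
  have h := K.card_add 0
  have := K.dbl_le 0
  omega

theorem dbl_eq (h6 : (hrows s f).card = 6) (j : Fin m) : (dbl s f d j).card = 1 := by
  have h := K.card_add j
  omega

theorem prod_entry {χ : ι} (hχ : χ ∈ hrows s f) (i j : Fin m) :
    d χ i * d χ j = if d χ i * d χ i = d χ j * d χ j then d χ i * d χ i else -2 := by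
  have hs := (mem_filter.mp hχ).1
  have h1 := K.cong χ hs i
  have h2 := K.cong χ hs j
  rcases K.entry hχ i with a | a | a | a <;> rcases K.entry hχ j with b | b | b | b <;>
    simp only [a, b] at h1 h2 ⊢ <;> first | (norm_num; done) | omega

theorem card_six (hm : 2 ≤ m) : (hrows s f).card = 6 := by
  have : NeZero m := ⟨by omega⟩
  rcases K.card_cases with h | h9
  · exact h
  exfalso
  let i : Fin m := ⟨0, by omega⟩
  let j : Fin m := ⟨1, by omega⟩
  have h1 : ∀ l, ∀ χ ∈ hrows s f, d χ l * d χ l = 1 := fun l χ hχ => by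
    have h := K.card_add l
    have h0 : dbl s f d l = ∅ := Finset.card_eq_zero.mp (by omega)
    rcases K.entry hχ l with e | e | e | e
    · rw [e]; norm_num
    · rw [e]; norm_num
    · exact absurd (mem_filter.mpr ⟨hχ, by rw [e]; norm_num⟩) (Finset.eq_empty_iff_forall_notMem.mp h0 χ)
    · exact absurd (mem_filter.mpr ⟨hχ, by rw [e]; norm_num⟩) (Finset.eq_empty_iff_forall_notMem.mp h0 χ)
  have h := K.orth i j (by simp [i, j, Fin.ext_iff])
  rw [K.sum_hrows _ i (fun χ _ e => by rw [e, zero_mul]), sum_congr rfl (g := fun _ => (1 : ℤ))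
    fun χ hχ => by rw [K.prod_entry hχ, if_pos ((h1 i χ hχ).trans (h1 j χ hχ).symm), h1 i χ hχ],
    sum_const, h9] at h
  norm_num at h

/-- No row is doubled twice. -/
theorem dbl_disjoint (h6 : (hrows s f).card = 6) {i j : Fin m} (hij : i ≠ j) :
    Disjoint (dbl s f d i) (dbl s f d j) := by
  rw [Finset.disjoint_left]
  intro χ hi hj
  have hone : ∀ l, χ ∈ dbl s f d l → dbl s f d l = {χ} := fun l hl =>
    (Finset.eq_of_subset_of_card_le (singleton_subset_iff.mpr hl)
      (by rw [K.dbl_eq h6, card_singleton])).symm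
  have hsame : ∀ θ ∈ hrows s f, d θ i * d θ i = d θ j * d θ j := by
    intro θ hθ
    by_cases e : θ = χ
    · rw [e, (mem_filter.mp hi).2, (mem_filter.mp hj).2]
    · have ni : ¬ d θ i * d θ i = 4 := fun h => e (mem_singleton.mp
        (hone i hi ▸ (mem_filter.mpr ⟨hθ, h⟩ : θ ∈ dbl s f d i)))
      have nj : ¬ d θ j * d θ j = 4 := fun h => e (mem_singleton.mp
        (hone j hj ▸ (mem_filter.mpr ⟨hθ, h⟩ : θ ∈ dbl s f d j)))
      rcases K.entry hθ i with a | a | a | a <;> rw [a] at ni ⊢ <;>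
        rcases K.entry hθ j with b | b | b | b <;> rw [b] at nj ⊢ <;> revert ni nj <;> norm_num
  have h := K.orth i j hij
  rw [K.sum_hrows _ i (fun χ _ e => by rw [e, zero_mul]), sum_congr rfl
    fun θ hθ => (K.prod_entry hθ i j).trans (if_pos (hsame θ hθ)),
    ← K.sum_hrows (fun χ => d χ i * d χ i) i (fun χ _ e => by rw [e, mul_zero]), K.norm] at h
  norm_num at h

/-- The rows all of whose entries are units. -/
theorem card_units (h6 : (hrows s f).card = 6) :
    ((hrows s f).filter fun χ => ∀ j, d χ j * d χ j = 1).card + m = 6 := by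
  have hd : ((univ : Finset (Fin m)).biUnion (dbl s f d)).card = m := by
    rw [card_biUnion fun i _ j _ hij => K.dbl_disjoint h6 hij,
      sum_congr rfl fun j _ => K.dbl_eq h6 j, sum_const, card_univ, Fintype.card_fin, smul_eq_mul,
      mul_one]
  have hsplit : (hrows s f).filter (fun χ => ∀ j, d χ j * d χ j = 1) =
      hrows s f \ (univ : Finset (Fin m)).biUnion (dbl s f d) := by
    ext χ
    simp only [mem_filter, mem_sdiff, mem_biUnion, mem_univ, true_and, dbl, not_exists, not_and]
    refine ⟨fun h => ⟨h.1, fun j _ e => ?_⟩, fun h => ⟨h.1, fun j => ?_⟩⟩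
    · rw [h.2 j] at e; norm_num at e
    · have hn := h.2 j h.1
      rcases K.entry h.1 j with a | a | a | a <;> rw [a] at hn ⊢ <;> revert hn <;> norm_num
  rw [hsplit, card_sdiff_of_subset fun χ hχ => by
    obtain ⟨j, -, hj⟩ := mem_biUnion.mp hχ
    exact (mem_filter.mp hj).1, hd, h6]
  have := Finset.card_le_card (s := (univ : Finset (Fin m)).biUnion (dbl s f d)) (t := hrows s f)
    fun χ hχ => by
      obtain ⟨j, -, hj⟩ := mem_biUnion.mp hχ
      exact (mem_filter.mp hj).1
  omega

end Columns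

end CfsgLib.Block.ExtraThree
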