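import Cfsg.Agent.Lib.Block.ExtraThree.Setting
import Cfsg.Agent.Lib.Block.ExtraThree.Column

/-!
# Columns of the principal block and the counts by sections
-/

set_option autoImplicit false
set_option linter.unusedSectionVars false

open Finset
open scoped ComplexConjugate Classical

namespace CfsgLib.Block.ExtraThree.Setting

open Cfsg CfsgLib CfsgLib.Block

universe u

variable {G : Type u} [Group G] [Fintype G] [DecidableEq G] [Fintype (IrrCharacter G)]
  {M : Ideal AlgInt} [M.IsMaximal] {P : Sylow 3 G} {z : G} {m : ℕ} (S : Setting M P z m)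

/-- The degree as an integer. -/
noncomputable def deg (χ : IrrCharacter G) : ℤ := (charDegree (χ : G → ℂ) : ℤ)

theorem coe_deg (χ : IrrCharacter G) : ((deg χ : ℤ) : ℂ) = (χ : G → ℂ) 1 := by
  rw [deg, Int.cast_natCast]
  exact (charDegree_eq χ).1.symm

theorem deg_one : deg (oneChar G) = 1 := by
  simp [deg, charDegree, oneChar]

theorem orderOf_x (j : Fin m) : orderOf (S.data.x j) = 3 := by
  have := S.fact_three
  exact orderOf_eq_prime (S.data.frame.exp _ (S.data.mem j))
    fun e => S.data.out j (by rw [e]; exact Subgroup.one_mem _)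

theorem isPPart_x (j : Fin m) : IsPPart 3 (S.data.x j) (S.data.x j) :=
  isPPart_one_mul ⟨1, by rw [pow_one]; exact S.orderOf_x j⟩ (by norm_num)

theorem exists_col (χ : IrrCharacter G) (j : Fin m) :
    ∃ d : ℤ, (χ : G → ℂ) (S.data.x j) = d ∧ (3 : ℤ) ∣ d - deg χ := by
  obtain ⟨n, ρ, -, hρ⟩ := χ.2
  set x := S.data.x j with hx
  obtain ⟨b, μ, h1, -, h3⟩ := Char.exists_eigen_data ρ x
  rw [S.orderOf_x j] at h1
  have e0 : ρ.character 1 = ∑ i, μ i ^ 0 := by rw [← h3 0, pow_zero]
  have e1 : ρ.character x = ∑ i, μ i ^ 1 := by rw [← h3 1, pow_one]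
  have e2 : ρ.character x = ∑ i, μ i ^ 2 := by
    rw [← h3 2]
    have hreal : IsConj x (x ^ 2) := by
      have h := S.data.real _ (S.data.mem j) (S.data.out j)
      rwa [← hx, show x⁻¹ = x ^ 2 from
        inv_eq_of_mul_eq_one_right (by rw [← pow_succ', hx]; exact S.data.frame.exp _ (S.data.mem j))] at h
    obtain ⟨c, hc⟩ := isConj_iff.mp hreal
    rw [← hc, Representation.char_conj]
  have hsum : (χ : G → ℂ) 1 + 2 * (χ : G → ℂ) x =
      3 * ((univ.filter fun i => μ i = 1).card : ℂ) := by
    rw [← hρ]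
    calc ρ.character 1 + 2 * ρ.character x = ∑ i, (μ i ^ 0 + μ i ^ 1 + μ i ^ 2) := by
          rw [sum_add_distrib, sum_add_distrib, ← e0, ← e1, ← e2]; ring
      _ = ∑ i, 3 * (if μ i = 1 then (1 : ℂ) else 0) := sum_congr rfl fun i _ => by
          by_cases h : μ i = 1
          · rw [h, if_pos rfl]; norm_num
          · rw [if_neg h, mul_zero]
            exact mul_left_cancel₀ (sub_ne_zero.mpr h) (by rw [mul_zero]; linear_combination h1 i)
      _ = _ := by rw [← mul_sum, sum_boole]
  set N := (univ.filter fun i => μ i = 1).card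
  obtain ⟨d, hd⟩ := Char.TwoNonzero.exists_int_of_rat (irr_isIntegral χ x) (a := 3 * (N : ℤ) - deg χ) (b := 2)
    two_ne_zero (by push_cast; rw [coe_deg]; linear_combination hsum)
  refine ⟨d, hd, ?_⟩
  rw [hd, ← coe_deg] at hsum
  have h : deg χ + 2 * d = 3 * (N : ℤ) := by exact_mod_cast hsum
  omega

/-- The value at `x j`, as an integer. -/
noncomputable def col (χ : IrrCharacter G) (j : Fin m) : ℤ := (S.exists_col χ j).choose

theorem coe_col (χ : IrrCharacter G) (j : Fin m) :
    ((S.col χ j : ℤ) : ℂ) = (χ : G → ℂ) (S.data.x j) := (S.exists_col χ j).choose_spec.1.symm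

theorem col_congr (χ : IrrCharacter G) (j : Fin m) : (3 : ℤ) ∣ S.col χ j - deg χ :=
  (S.exists_col χ j).choose_spec.2

theorem sum_blk (f : IrrCharacter G → ℂ) :
    ∑ χ ∈ S.blk, f χ = ∑ᶠ χ ∈ principalBlock M G, f χ := by
  rw [finsum_mem_eq_toFinset_sum]
  exact Finset.sum_congr (by ext; simp [blk]) fun _ _ => rfl

theorem sum_norm_x (j : Fin m) :
    ∑ χ ∈ S.blk, (χ : G → ℂ) (S.data.x j) * conj ((χ : G → ℂ) (S.data.x j)) = 9 := by
  have hp3 := S.fact_three
  set x := S.data.x j
  set C := Subgroup.centralizer ({x} : Set G) with hCdef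
  have hC : ∀ t : G, t ∈ C ↔ Commute t x := fun t => Subgroup.mem_centralizer_singleton_iff
  have := Fintype.ofFinite C
  have := Fintype.ofFinite (IrrCharacter C)
  have := Fintype.ofFinite (ConjClasses C)
  have h := sum_principal_secFun S.hM (C := C) ⟨1, by rw [pow_one]; exact S.orderOf_x j⟩ hC
    (y := 1) (z := 1) (by simp) (by simp)
  simp only [OneMemClass.coe_one, mul_one] at h
  rw [S.sum_blk, h, finsum_mem_eq_toFinset_sum]
  simp only [Char.conj_irr_one]
  rw [Finset.sum_congr (s₂ := (principalBlock M C).toFinite.toFinset) (g := fun η : IrrCharacter C =>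
      (η : C → ℂ) 1 * (η : C → ℂ) 1) (by ext; simp) (fun _ _ => rfl),
    sum_sq_principal_of_complement S.hM (S.data.frame.complement (S.data.mem j) (S.data.out j))]
  obtain ⟨T, hT⟩ := S.data.frame.exists_sylow_centralizer (S.data.mem j) (S.data.out j)
  rw [← T.card_eq_multiplicity, hT,
    Nat.card_congr (Subgroup.subgroupOfEquivOfLe (S.data.frame.centP_le x)).toEquiv,
    S.data.frame.card_centP (S.data.mem j) (S.data.out j)]
  norm_num

/-- The columns at the non-central elements. -/
theorem columns : Columns S.blk (oneChar G) deg S.col where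
  mem := S.one_mem_blk
  f_one := deg_one
  d_one j := by
    have h := S.coe_col (oneChar G) j
    change ((S.col (oneChar G) j : ℤ) : ℂ) = 1 at h
    exact_mod_cast h
  cong χ _ j := S.col_congr χ j
  norm j := by
    have h := S.sum_norm_x j
    simp only [← S.coe_col, map_intCast] at h
    exact_mod_cast h
  orth i j hij := by
    have h := blockUnion_orthogonal_conj S.hM (.of_isPBlock (isPBlock_principalBlock (M := M) (G := G)))
      (S.isPPart_x i) (S.isPPart_x j) fun h => hij (S.data.distinct i j h)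
    rw [← S.sum_blk] at h
    simp only [← S.coe_col, map_intCast] at h
    exact_mod_cast h
  deg j := by
    have h := blockUnion_orthogonal_regular_singular S.hM
      (.of_isPBlock (isPBlock_principalBlock (M := M) (G := G)))
      (g := 1) (h := S.data.x j) (by simp) (by rw [S.orderOf_x j])
    rw [← S.sum_blk] at h
    simp only [← S.coe_col, ← coe_deg, map_intCast] at h
    exact_mod_cast h

/-- The rows of height zero. -/
noncomputable def zeroRows : Finset (IrrCharacter G) := hrows S.blk deg

theorem blockHeight_zero_iff (χ : IrrCharacter G) :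
    blockHeight 3 (principalBlock M G) (χ : G → ℂ) = 0 ↔ ¬ (3 : ℤ) ∣ deg χ := by
  have hmin : sInf ((fun ψ : IrrCharacter G => (charDegree (ψ : G → ℂ)).factorization 3) ''
      principalBlock M G) = 0 := Nat.le_zero.mp (Nat.sInf_le ⟨oneChar G, one_mem_principalBlock,
        by simp [charDegree, oneChar]⟩)
  rw [blockHeight, hmin, Nat.sub_zero, deg, show (3 : ℤ) = ((3 : ℕ) : ℤ) from rfl,
    Int.natCast_dvd_natCast]
  constructor
  · intro h hd
    have := (Nat.prime_three.dvd_iff_one_le_factorization (charDegree_eq χ).2).mp hd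
    omega
  · exact Nat.factorization_eq_zero_of_not_dvd

theorem card_zeroRows :
    Nat.card {χ : IrrCharacter G // χ ∈ principalBlock M G ∧
      blockHeight 3 (principalBlock M G) (χ : G → ℂ) = 0} = S.zeroRows.card := by
  rw [Nat.card_eq_fintype_card, Fintype.card_subtype]
  refine congrArg Finset.card ?_
  ext χ
  simp [zeroRows, hrows, S.mem_blk, blockHeight_zero_iff]

theorem regInner_one_ne_zero {χ : IrrCharacter G} (hχ : χ ∈ S.blk) :
    regInner 3 χ (oneChar G) ≠ 0 := by
  intro h0
  have := Fintype.ofFinite (ConjClasses G)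
  apply omegaBar_regBar_ne_zero S.hM (S.mem_blk.mp hχ)
  obtain ⟨R, hR, hRres⟩ := exists_regN_lift (p := 3) (M := M) χ (oneChar G)
  rw [h0, mul_zero, mul_eq_zero_iff_right (Char.irr_one_ne_zero χ)] at hR
  rw [omegaBar_regBar_eq_regN, ← hRres, show R = 0 from Subtype.ext hR, map_zero]

/-- `⟨χ, 1⟩` by sections, for a character vanishing at the non-central elements. -/
theorem zz_inner_ne_zero {χ : IrrCharacter G} (hχ : χ ∈ S.blk) (h3 : (3 : ℤ) ∣ deg χ) :
    classInner (fun g => zzFun z (S.pt g) * (χ : G → ℂ) g) (oneChar G : G → ℂ) ≠ 0 := by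
  intro h0
  have hne : χ ≠ oneChar G := fun e => by rw [e, deg_one] at h3; norm_num at h3
  apply S.regInner_one_ne_zero hχ
  have horth := Char.classInner_irr_ne hne
  have hsplit : (χ : G → ℂ) = regFun 3 (χ : G → ℂ) + fun g => zzFun z (S.pt g) * (χ : G → ℂ) g := by
    funext g
    have hone := S.partition_one g
    simp only [Pi.add_apply, regFun]
    by_cases h1 : S.pt g = 1
    · rw [if_neg (S.pt_regular h1), zzFun, ind, ind, if_neg (h1 ▸ S.one_not_conj_z),
        if_neg (h1 ▸ S.one_not_conj_z_sq)]
      ring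
    · have hd : 3 ∣ orderOf g := by
        by_contra hn; exact h1 (S.pt_eq_one hn)
      rw [if_pos hd, zero_add]
      rcases S.classify g with h | h | h | ⟨j, hj⟩
      · exact absurd h h1
      · rw [zzFun, ind, ind, if_pos h, if_neg fun h2 => S.not_conj_z_sq (h.trans h2.symm)]; ring
      · rw [zzFun, ind, ind, if_pos h, if_neg fun h2 => S.not_conj_z_sq (h2.trans h.symm)]; ring
      · rw [S.value_x hχ hj, ← S.coe_col, S.columns.eq_zero hχ h3 j, Int.cast_zero, mul_zero]
  rw [hsplit, Char.classInner_add_left, h0, add_zero] at horth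
  exact horth

end CfsgLib.Block.ExtraThree.Setting
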