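import Cfsg.Agent.Lib.Block.ExtraThree.Pairs
import Cfsg.Agent.Lib.Block.ExtraThree.Sections
import Mathlib.GroupTheory.FiniteAbelian.Duality
import Mathlib.RingTheory.RootsOfUnity.AlgebraicallyClosed

/-!
# `T(χ, p)` is congruent to `χ(1) T(1, p)` modulo 3

The elements of the section of `z` are grouped in orbits of `P`; over an element centralized by `P`
the characters of the block are congruent to their degrees, over the others the difference of a
character and its twist gives the divisibility.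
-/

set_option autoImplicit false
set_option linter.unusedSectionVars false

open Finset
open scoped ComplexConjugate Classical

namespace CfsgLib.Block.ExtraThree.Setting

open Cfsg CfsgLib CfsgLib.Block

universe u

variable {G : Type u} [Group G] [Fintype G] [DecidableEq G] [Fintype (IrrCharacter G)]
  {M : Ideal AlgInt} [M.IsMaximal] {P : Sylow 3 G} {z : G} {m : ℕ} (S : Setting M P z m)

include S in
/-- At a 3-regular element centralized by `P` a character of the block is congruent to its degree. -/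
theorem small_value_sub {χ : IrrCharacter G} (hχ : χ ∈ S.blk) {y : G}
    (hP : (P : Subgroup G) ≤ Subgroup.centralizer ({y} : Set G)) :
    Small M ((χ : G → ℂ) (z * y) - (χ : G → ℂ) 1) := by
  have hp3 := S.fact_three
  set i := (Subgroup.centralizer ({y} : Set G)).index with hi
  have hi3 : ¬ 3 ∣ i := fun h => P.not_dvd_index (h.trans (Subgroup.index_dvd_of_le hP))
  have hzy : Commute z y := (Subgroup.mem_centralizer_singleton_iff.mp (hP S.data.frame.mem))
  have h1 : Small M ((χ : G → ℂ) (z * y) - (χ : G → ℂ) y) :=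
    ⟨irrLoc M χ (z * y) - irrLoc M χ y, rfl, by
      rw [map_sub, res_irr_regularPart S.hM χ hzy (k := 1) (by rw [pow_one]; exact S.data.frame.z_cube),
        sub_self]⟩
  have h2 : Small M ((χ : G → ℂ) y - (χ : G → ℂ) 1) := by
    have hc := centralRes_eq_of_mem (M := M) isPBlock_principalBlock (S.mem_blk.mp hχ)
      (one_mem_principalBlock (M := M) (G := G)) y
    have hs : Small M ((i : ℂ) * (χ : G → ℂ) y / (χ : G → ℂ) 1 - (i : ℂ)) :=
      ⟨⟨_, centralChar_mem (M := M) χ y⟩ - ⟨_, centralChar_mem (M := M) (oneChar G) y⟩, by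
        show centralChar (χ : G → ℂ) y - centralChar (oneChar G : G → ℂ) y = _
        simp [centralChar, oneChar, hi], by rw [map_sub]; exact sub_eq_zero.mpr hc⟩
    have h := (hs.mul_int (irr_isIntegral χ 1)).mul_mem (inv_natCast_mem S.hM hi3)
    convert h using 1
    have hf := Char.irr_one_ne_zero χ
    have hi0 : (i : ℂ) ≠ 0 := Nat.cast_ne_zero.mpr Subgroup.index_ne_zero_of_finite
    field_simp
  have h := h1.add h2
  rwa [sub_add_sub_cancel] at h

/-- The integrand of `T(χ, p) - χ(1) T(1, p)`. -/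
noncomputable def crossFun (χ p : IrrCharacter G) (g : G) : ℂ :=
  S.h g * ((χ : G → ℂ) g - (χ : G → ℂ) 1) * conj (S.diff p g)

theorem isClassFunction_crossFun (χ p : IrrCharacter G) : IsClassFunction G (S.crossFun χ p) :=
  fun g c => by
    simp only [crossFun, h_eq, pPt_conj, S.isClassFunction_hVal _ c, Char.isClassFunction_irr χ g c,
      Char.isClassFunction_of_isGeneralized (S.diff_gen p) g c]

theorem small_cross_term {χ p : IrrCharacter G} (hχ : χ ∈ S.blk) (hp : p ∈ S.blk) {y : G}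
    (hyz : Commute y z) (hy : ¬ 3 ∣ orderOf y) :
    Small M ((Nat.card ↥(Subgroup.centralizer ({y} : Set G) ⊓ (P : Subgroup G)) : ℂ)⁻¹ *
      S.crossFun χ p (z * y)) := by
  have hp3 := S.fact_three
  have F := S.data.frame
  set Q := Subgroup.centralizer ({y} : Set G) ⊓ (P : Subgroup G) with hQdef
  have hzQ : z ∈ Q := Subgroup.mem_inf.mpr
    ⟨Subgroup.mem_centralizer_singleton_iff.mpr hyz.symm.eq, F.mem⟩
  -- an abelian subgroup of `Q` containing `z`
  obtain ⟨A, hAQ, hzA, hAc, hcase⟩ : ∃ A : Subgroup G, A ≤ Q ∧ z ∈ A ∧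
      (∀ a ∈ A, ∀ b ∈ A, a * b = b * a) ∧
      ((Nat.card A = Nat.card Q) ∨
        (3 * Nat.card A = Nat.card Q ∧ (P : Subgroup G) ≤ Subgroup.centralizer ({y} : Set G))) := by
    have hdvd : Nat.card Q ∣ 3 ^ 3 := by
      rw [show (3 : ℕ) ^ 3 = Nat.card ↥(P : Subgroup G) by rw [F.card]; norm_num]
      exact Subgroup.card_dvd_of_le (inf_le_right : Q ≤ (P : Subgroup G))
    obtain ⟨i, hi, e⟩ := (Nat.dvd_prime_pow Nat.prime_three).mp hdvd
    by_cases hQP : Q = (P : Subgroup G)
    · have hm : Nonempty {a : G // a ∈ (P : Subgroup G) ∧ a ∉ Subgroup.zpowers z} := by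
        rw [← not_isEmpty_iff]
        intro h0
        have h24 := F.card_out
        rw [Nat.card_of_isEmpty] at h24
        norm_num at h24
      obtain ⟨a, ha, hna⟩ := hm
      refine ⟨centP P a, hQP.symm ▸ inf_le_right, mem_centP.mpr ⟨(F.central a ha).symm, F.mem⟩,
        fun u hu v hv => (F.centP_comm ha hna hu hv).eq, Or.inr ⟨?_, fun u hu => ?_⟩⟩
      · rw [F.card_centP ha hna, hQP, F.card]
      · exact (Subgroup.mem_inf.mp (hQP.symm ▸ hu : u ∈ Q)).1
    · refine ⟨Q, le_rfl, hzQ, fun u hu v hv => ?_, Or.inl rfl⟩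
      have hi3 : i ≠ 3 := fun h3 => hQP (Subgroup.eq_of_le_of_card_ge inf_le_right
        (by rw [F.card, e, h3]; norm_num))
      rcases (show i = 0 ∨ i = 1 ∨ i = 2 by omega) with rfl | rfl | rfl
      · have : Q = ⊥ := Subgroup.card_eq_one.mp (by rw [e, pow_zero])
        rw [this, Subgroup.mem_bot] at hu hv
        rw [hu, hv]
      · have : IsCyclic Q := isCyclic_of_prime_card (p := 3) (by rw [e, pow_one])
        exact congrArg Subtype.val
          ((IsCyclic.commGroup (α := Q)).mul_comm ⟨u, hu⟩ ⟨v, hv⟩)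
      · exact congrArg Subtype.val
          (IsPGroup.commutative_of_card_eq_prime_sq (p := 3) (G := Q) e ⟨u, hu⟩ ⟨v, hv⟩)
  let instA : CommGroup A :=
    { (inferInstance : Group A) with
      mul_comm := fun a b => Subtype.ext (hAc a a.2 b b.2) }
  obtain ⟨μ, hμ⟩ := CommGroup.exists_apply_ne_one_of_hasEnoughRootsOfUnity A ℂ
    (a := (⟨z, hzA⟩ : A)) (fun e => F.ne (congrArg Subtype.val e))
  set w : ℂ := (μ ⟨z, hzA⟩ : ℂ) with hw
  have hw3 : w ^ 3 = 1 := by
    rw [hw, ← Units.val_pow_eq_pow_val, ← map_pow,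
      show (⟨z, hzA⟩ : A) ^ 3 = 1 from Subtype.ext F.z_cube, map_one, Units.val_one]
  have hwroot : w ^ 2 + w + 1 = 0 := by
    have hne : w - 1 ≠ 0 := sub_ne_zero.mpr fun e => hμ (Units.ext e)
    exact mul_left_cancel₀ hne (by rw [mul_zero]; linear_combination hw3)
  obtain ⟨-, -, hwc, hwsq, hwi⟩ := cube_root_facts hwroot
  set d1 := S.diff p (z * y) with hd1
  have hpt : ∀ a ∈ A, S.pt (y * a) = a := by
    intro a ha
    have haQ := Subgroup.mem_inf.mp (hAQ ha)
    obtain ⟨k, hk⟩ := IsPGroup.iff_orderOf.mp P.2 ⟨a, haQ.2⟩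
    rw [Subgroup.orderOf_mk] at hk
    have hc : Commute a y := Subgroup.mem_centralizer_singleton_iff.mp haQ.1
    exact pPt_eq S.hM ⟨y, hc.eq, hc, ⟨k, hk⟩, hy⟩
  have hd2 : S.diff p (y * z ^ 2) = -d1 := by
    rw [hd1, ← S.diff_pow, (hyz.symm).mul_pow, S.k_regular y hy, S.k_pPow z S.orderOf_rep_z, F.inv_z,
      (hyz.pow_right 2).eq]
  have hzero : ∀ a : A, (a : G) ≠ z → (a : G) ≠ z ^ 2 → S.diff p (y * (a : G)) = 0 := by
    intro a h1 h2
    have hcon : ∀ v ∈ Subgroup.zpowers z, IsConj v (a : G) → (a : G) = v := fun v hv h => by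
      obtain ⟨c, hc⟩ := isConj_iff.mp h
      rw [← hc]
      exact F.isolated' hv (by rw [hc]; exact (Subgroup.mem_inf.mp (hAQ a.2)).2)
    rw [S.diff_zz hp, hpt a a.2, zzFun, ind, ind, if_neg fun h => h1 (hcon z (Subgroup.mem_zpowers z) h),
      if_neg fun h => h2 (hcon _ (Subgroup.npow_mem_zpowers z 2) h), add_zero, zero_mul]
  have hsum : ∑ a : A, (μ a : ℂ) * S.diff p (y * (a : G)) = (w - w ^ 2) * d1 := by
    let a1 : A := ⟨z, hzA⟩
    let a2 : A := ⟨z ^ 2, pow_mem hzA 2⟩
    have hne : a1 ≠ a2 := fun e => F.ne (by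
      have e' : z = z ^ 2 := congrArg Subtype.val e
      rw [pow_two, eq_comm, mul_eq_left] at e'
      exact e')
    rw [← Finset.sum_subset (Finset.subset_univ ({a1, a2} : Finset A)) fun a _ ha => ?_, sum_pair hne]
    · show (μ a1 : ℂ) * S.diff p (y * z) + (μ a2 : ℂ) * S.diff p (y * z ^ 2) = _
      rw [hd2, hyz.eq, ← hd1, show a2 = a1 ^ 2 from Subtype.ext rfl, map_pow, Units.val_pow_eq_pow_val,
        ← hw]
      ring
    · simp only [Finset.mem_insert, Finset.mem_singleton, not_or] at ha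
      rw [hzero a (fun e => ha.1 (Subtype.ext e)) fun e => ha.2 (Subtype.ext e), mul_zero]
  have hβ := isIntegral_avg_gen (S.diff_gen p) y A μ fun a ha =>
    (Subgroup.mem_centralizer_singleton_iff.mp (Subgroup.mem_inf.mp (hAQ ha)).1 : Commute a y).symm
  rw [hsum] at hβ
  set β := (Nat.card A : ℂ)⁻¹ * ((w - w ^ 2) * d1) with hβdef
  have hAne : (Nat.card A : ℂ) ≠ 0 := Nat.cast_ne_zero.mpr Nat.card_pos.ne'
  have hd1β : conj d1 = (w - w ^ 2) * (Nat.card A : ℂ) * conj β / 3 := by
    rw [hβdef, map_mul, map_inv₀, map_natCast, map_mul, map_sub, map_pow, hwc]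
    field_simp
    linear_combination (conj d1) * hwsq + (conj d1 * (w - w ^ 2) * w) * hw3
  have hh : S.h (z * y) = 3 * S.sq := by
    have hptz : S.pt (z * y) = z :=
      pPt_eq S.hM ⟨y, rfl, hyz.symm, S.orderOf_rep_z, hy⟩
    rw [h, hptz, epsFun, ind, ind, if_pos (IsConj.refl z), if_neg fun h2 => S.not_conj_z_sq h2.symm]
    ring
  set x := S.sq * (w - w ^ 2) / 3 with hx
  have hxi : IsIntegral ℤ x := by
    refine isIntegral_of_pow_eq_one (n := 2) two_pos ?_
    rw [hx, div_pow, mul_pow, S.sq_sq, hwsq]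
    norm_num
  have hcβ : IsIntegral ℤ (conj β) :=
    hβ.map (starRingEnd ℂ).toIntAlgHom
  have hψi : IsIntegral ℤ ((χ : G → ℂ) (z * y) - (χ : G → ℂ) 1) :=
    (irr_isIntegral χ _).sub (irr_isIntegral χ _)
  have hterm : (Nat.card Q : ℂ)⁻¹ * S.crossFun χ p (z * y) =
      (3 * (Nat.card A : ℂ) / (Nat.card Q : ℂ)) * (x * conj β) *
        ((χ : G → ℂ) (z * y) - (χ : G → ℂ) 1) := by
    rw [crossFun, hh, ← hd1, hd1β, hx]
    ring
  rw [hterm]
  have hQne : (Nat.card Q : ℂ) ≠ 0 := Nat.cast_ne_zero.mpr Nat.card_pos.ne'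
  rcases hcase with h | ⟨h, hPy⟩
  · rw [h, mul_div_assoc, div_self hQne, mul_one,
      show (3 : ℂ) * (x * conj β) * ((χ : G → ℂ) (z * y) - (χ : G → ℂ) 1) =
        (x * conj β * ((χ : G → ℂ) (z * y) - (χ : G → ℂ) 1)) * ((3 : ℕ) : ℂ) by push_cast; ring]
    exact (small_natCast S.hM).mul_int ((hxi.mul hcβ).mul hψi)
  · rw [← h]
    push_cast
    rw [div_self (by rw [← h] at hQne; push_cast at hQne; exact hQne), one_mul]
    exact (S.small_value_sub hχ hPy).mul_int (hxi.mul hcβ)

theorem small_avg_cross {χ p : IrrCharacter G} (hχ : χ ∈ S.blk) (hp : p ∈ S.blk) :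
    Small M ((Nat.card G : ℂ)⁻¹ * ∑ g : G, ind z (S.pt g) * S.crossFun χ p g) := by
  have hp3 := S.fact_three
  have F := S.data.frame
  set C := Subgroup.centralizer ({z} : Set G) with hCdef
  have hC : ∀ t : G, t ∈ C ↔ Commute t z := fun t => Subgroup.mem_centralizer_singleton_iff
  have := Fintype.ofFinite C
  rw [sum_congr rfl (g := fun g => if IsConj z (S.pt g) then S.crossFun χ p g else 0) fun g _ => by
      rw [ind]; split_ifs <;> simp, ← Finset.sum_filter,
    avg_section S.hM (S.isClassFunction_crossFun χ p) S.orderOf_rep_z hC]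
  rw [Finset.sum_subtype (univ.filter fun y : C => ¬ 3 ∣ orderOf y)
    (p := fun y : C => ¬ 3 ∣ orderOf y) (by simp) fun y => S.crossFun χ p (z * (y : G))]
  let Y := {y : C // ¬ 3 ∣ orderOf y}
  have hconjC : ∀ (u : ↥(P : Subgroup G)) (y : C), (u : G) * (y : G) * (u : G)⁻¹ ∈ C := fun u y =>
    mul_mem (mul_mem (F.le_centralizer_z u.2) y.2) (inv_mem (F.le_centralizer_z u.2))
  let act : ↥(P : Subgroup G) → Y → Y := fun u y => ⟨⟨_, hconjC u y.1⟩, by
    rw [← Subgroup.orderOf_coe]
    show ¬ 3 ∣ orderOf ((u : G) * ((y.1 : C) : G) * (u : G)⁻¹)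
    rw [show orderOf ((u : G) * ((y.1 : C) : G) * (u : G)⁻¹) = orderOf ((y.1 : C) : G) from
      MulEquiv.orderOf_eq (MulAut.conj (u : G)) _, Subgroup.orderOf_coe]
    exact y.2⟩
  let instY : MulAction ↥(P : Subgroup G) Y :=
    { smul := act
      one_smul := fun y => Subtype.ext (Subtype.ext (by
        show (1 : G) * ((y.1 : C) : G) * (1 : G)⁻¹ = _
        group))
      mul_smul := fun u v y => Subtype.ext (Subtype.ext (by
        show ((u * v : ↥(P : Subgroup G)) : G) * ((y.1 : C) : G) * ((u * v : ↥(P : Subgroup G)) : G)⁻¹ =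
          (u : G) * ((v : G) * ((y.1 : C) : G) * (v : G)⁻¹) * (u : G)⁻¹
        rw [Subgroup.coe_mul]
        group)) }
  have hs := small_sum_orbits (M := M) (H := ↥(P : Subgroup G))
    (fun y : Y => S.crossFun χ p (z * ((y.1 : C) : G)))
    (fun u y => by
      show S.crossFun χ p (z * ((u : G) * ((y.1 : C) : G) * (u : G)⁻¹)) = _
      rw [show z * ((u : G) * ((y.1 : C) : G) * (u : G)⁻¹) =
        (u : G) * (z * ((y.1 : C) : G)) * (u : G)⁻¹ by
          rw [← mul_assoc (u : G) z, (F.central u u.2).eq]; simp only [mul_assoc],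
        S.isClassFunction_crossFun χ p])
    (fun y => by
      have h := S.small_cross_term hχ hp (y := ((y.1 : C) : G)) ((hC _).mp y.1.2)
        (by rw [Subgroup.orderOf_coe]; exact y.2)
      convert h using 4
      refine Nat.card_congr (Equiv.ofBijective (fun u => ⟨(u.1 : G), Subgroup.mem_inf.mpr
        ⟨Subgroup.mem_centralizer_singleton_iff.mpr (mul_inv_eq_iff_eq_mul.mp
          (congrArg (fun t : Y => ((t.1 : C) : G)) u.2)), u.1.2⟩⟩) ⟨?_, ?_⟩)
      · intro a b e
        simp only [Subtype.mk.injEq] at e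
        exact Subtype.ext (Subtype.ext e)
      · rintro ⟨u, hu⟩
        obtain ⟨h1, h2⟩ := Subgroup.mem_inf.mp hu
        exact ⟨⟨⟨u, h2⟩, Subtype.ext (Subtype.ext
          (mul_inv_eq_iff_eq_mul.mpr (Subgroup.mem_centralizer_singleton_iff.mp h1)))⟩, rfl⟩)
  have hCcard : Nat.card C = 27 * ((P : Subgroup G).subgroupOf C).index := by
    rw [← F.card, ← Nat.card_congr (Subgroup.subgroupOfEquivOfLe F.le_centralizer_z).toEquiv,
      Subgroup.card_mul_index]
  have hn3 : ¬ 3 ∣ ((P : Subgroup G).subgroupOf C).index := by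
    have h := (P.subtype F.le_centralizer_z).not_dvd_index
    rwa [Sylow.coe_subtype] at h
  have h := hs.mul_mem (inv_natCast_mem S.hM hn3)
  convert h using 1
  rw [hCcard, F.card]
  push_cast
  rw [mul_inv]
  ring

theorem dvd_T_sub {χ p : IrrCharacter G} (hχ : χ ∈ S.blk) (hp : p ∈ S.blk) :
    (3 : ℤ) ∣ S.Ti χ p - deg χ * S.Ti (oneChar G) p := by
  apply dvd_of_small S.hM
  have h1 : ((S.Ti χ p - deg χ * S.Ti (oneChar G) p : ℤ) : ℂ) =
      (Nat.card G : ℂ)⁻¹ * ∑ g : G, ind z (S.pt g) * S.crossFun χ p g +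
        (Nat.card G : ℂ)⁻¹ * ∑ g : G, ind z (S.pt g) * S.crossFun (S.twist χ) p g := by
    rw [Int.cast_sub, Int.cast_mul, S.coe_Ti, S.coe_Ti, coe_deg]
    have hsum2 : ∑ g : G, ind (z ^ 2) (S.pt g) * S.crossFun χ p g =
        ∑ g : G, ind z (S.pt g) * S.crossFun (S.twist χ) p g := by
      symm
      refine Fintype.sum_bijective _ S.pow_bijective _ _ fun g => ?_
      obtain ⟨y, -, -, -, -, e⟩ := S.pow_eq g
      have hi : ind (z ^ 2) (S.pt g)⁻¹ = ind z (S.pt g) := by
        have hh : IsConj (z ^ 2) (S.pt g)⁻¹ ↔ IsConj z (S.pt g) := by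
          rw [← S.data.frame.inv_z]
          simp only [isConj_iff]
          refine exists_congr fun c => ?_
          rw [← inv_inj, inv_inv]
          simp [mul_assoc]
        simp only [ind]
        by_cases h0 : IsConj z (S.pt g)
        · rw [if_pos h0, if_pos (hh.mpr h0)]
        · rw [if_neg h0, if_neg fun h' => h0 (hh.mp h')]
      simp only [e, hi, crossFun, S.h_pow, S.diff_pow, map_neg, twist_apply, one_pow]
      ring
    rw [← hsum2, ← mul_add, ← sum_add_distrib]
    simp only [T, classInner, mul_sum, ← sum_sub_distrib]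
    refine sum_congr rfl fun g _ => ?_
    have hz : S.h g = (ind z (S.pt g) + ind (z ^ 2) (S.pt g)) * S.h g := by
      rw [h]
      simp only [epsFun, ind]
      by_cases h1 : IsConj z (S.pt g)
      · rw [if_pos h1, if_neg fun h2 => S.not_conj_z_sq (h1.trans h2.symm)]; ring
      · rw [if_neg h1]; split_ifs <;> ring
    simp only [crossFun, oneChar]
    linear_combination ((Nat.card G : ℂ)⁻¹ * ((χ : G → ℂ) g - (χ : G → ℂ) 1) * conj (S.diff p g)) * hz
  rw [h1]
  exact (S.small_avg_cross hχ hp).add (S.small_avg_cross (S.twist_mem hχ) hp)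

end CfsgLib.Block.ExtraThree.Setting
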