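import Cfsg.Agent.Lib.Block.ExtraThree.Sections

/-!
# The number of characters and of twisted pairs
-/

set_option autoImplicit false
set_option linter.unusedSectionVars false

open Finset
open scoped ComplexConjugate Classical

namespace CfsgLib.Block.ExtraThree.Setting

open Cfsg CfsgLib CfsgLib.Block

universe u

variable {G : Type u} [Group G] [Fintype G] [DecidableEq G] [Fintype (IrrCharacter G)]
  {M : Ideal AlgInt} [M.IsMaximal] {P : Sylow 3 G} {z : G} {m : ℕ} (S : Setting M P z m)

/-- The sum of the squared absolute values over the block. -/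
noncomputable def sqSum (g : G) : ℂ := ∑ χ ∈ S.blk, (χ : G → ℂ) g * conj ((χ : G → ℂ) g)

/-- The rank of the principal block of the centralizer of `z`. -/
noncomputable def centralRank (_S : Setting M P z m) : ℕ :=
  blockRank 3 (principalBlock M (Subgroup.centralizer ({z} : Set G)))

theorem avg_sqSum {v : G} (hv : ∃ k : ℕ, orderOf v = 3 ^ k) :
    (Nat.card G : ℂ)⁻¹ * ∑ g : G, ind v (S.pt g) * S.sqSum g =
      (blockRank 3 (principalBlock M (Subgroup.centralizer ({v} : Set G))) : ℂ) := by
  set C := Subgroup.centralizer ({v} : Set G) with hCdef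
  have hC : ∀ t : G, t ∈ C ↔ Commute t v := fun t => Subgroup.mem_centralizer_singleton_iff
  have := Fintype.ofFinite C
  have := Fintype.ofFinite (IrrCharacter C)
  have hF : IsClassFunction G S.sqSum := fun g c => by
    simp only [sqSum, Char.isClassFunction_irr _ g c]
  rw [sum_congr rfl (g := fun g => if IsConj v (S.pt g) then S.sqSum g else 0) fun g _ => by
      rw [ind]; split_ifs <;> simp, ← Finset.sum_filter, avg_section S.hM hF hv hC]
  have hin : ∀ y ∈ univ.filter (fun y : C => ¬ 3 ∣ orderOf y), S.sqSum (v * (y : G)) =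
      ∑ η ∈ univ.filter (· ∈ principalBlock M C), (η : C → ℂ) y * conj ((η : C → ℂ) y) := by
    intro y hy
    rw [sqSum, S.sum_blk, sum_principal_secFun S.hM hv hC (mem_filter.mp hy).2 (mem_filter.mp hy).2,
      finsum_mem_eq_toFinset_sum]
    exact Finset.sum_congr (by ext; simp) fun _ _ => rfl
  rw [sum_congr rfl hin, sum_regular_norm_eq_rank S.hM
      (.of_isPBlock (isPBlock_principalBlock (M := M) (G := C))),
    inv_mul_cancel_left₀ (Nat.cast_ne_zero.mpr Nat.card_pos.ne')]

theorem rank_x (j : Fin m) :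
    blockRank 3 (principalBlock M (Subgroup.centralizer ({S.data.x j} : Set G))) = 1 := by
  have := Fintype.ofFinite (Subgroup.centralizer ({S.data.x j} : Set G))
  have := Fintype.ofFinite (IrrCharacter (Subgroup.centralizer ({S.data.x j} : Set G)))
  have := Fintype.ofFinite (ConjClasses (Subgroup.centralizer ({S.data.x j} : Set G)))
  exact (blockRank_principal_eq_one_iff S.hM).mpr
    (S.data.frame.complement (S.data.mem j) (S.data.out j))

include S in
theorem pow_orderOf_z_sq : ∃ k : ℕ, orderOf (z ^ 2) = 3 ^ k := by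
  refine ⟨1, ?_⟩
  have := S.fact_three
  rw [pow_one]
  refine orderOf_eq_prime (S.data.frame.exp _ (pow_mem S.data.frame.mem 2)) fun e => ?_
  have h3 := S.data.frame.z_cube
  rw [pow_succ, e, one_mul] at h3
  exact S.data.frame.ne h3

theorem avg_sqSum_z_sq :
    (Nat.card G : ℂ)⁻¹ * ∑ g : G, ind (z ^ 2) (S.pt g) * S.sqSum g = (S.centralRank : ℂ) := by
  have hC : Subgroup.centralizer ({z ^ 2} : Set G) = Subgroup.centralizer ({z} : Set G) := by
    ext t
    rw [Subgroup.mem_centralizer_singleton_iff, Subgroup.mem_centralizer_singleton_iff]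
    refine ⟨fun h => ?_, fun h => (Commute.pow_right h 2).eq⟩
    have h2 := Commute.pow_right (h : Commute t (z ^ 2)) 2
    rw [← pow_mul, show (2 : ℕ) * 2 = 3 + 1 from rfl, pow_succ, S.data.frame.z_cube, one_mul] at h2
    exact h2.eq
  rw [S.avg_sqSum S.pow_orderOf_z_sq, centralRank]
  congr 2 <;> rw [hC]

theorem card_block_eq : (S.blk.card : ℂ) =
    (blockRank 3 (principalBlock M G) : ℂ) + 2 * (S.centralRank : ℂ) + (m : ℂ) := by
  have := Fintype.ofFinite (ConjClasses G)
  have hk : (S.blk.card : ℂ) = (Nat.card G : ℂ)⁻¹ * ∑ g : G, S.sqSum g := by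
    rw [show (S.blk.card : ℂ) = ∑ χ ∈ S.blk, classInner (χ : G → ℂ) (χ : G → ℂ) by
      simp [Char.classInner_irr_self]]
    simp only [classInner, sqSum]
    rw [← mul_sum, sum_comm]
  have hreg : (Nat.card G : ℂ)⁻¹ * ∑ g : G, (if S.pt g = 1 then (1 : ℂ) else 0) * S.sqSum g =
      (blockRank 3 (principalBlock M G) : ℂ) := by
    rw [blockRank_eq_sum_regInner S.hM (.of_isPBlock (isPBlock_principalBlock (M := M) (G := G)))]
    simp only [regInner, classInner, sqSum, mul_sum]
    rw [sum_comm]
    refine Finset.sum_congr (by ext; simp [blk]) fun χ _ => sum_congr rfl fun g _ => ?_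
    by_cases h : S.pt g = 1
    · simp [regFun, h, S.pt_regular h]
    · have hd : 3 ∣ orderOf g := by by_contra hn; exact h (S.pt_eq_one hn)
      simp [regFun, h, hd]
  have hx : ∀ j, (Nat.card G : ℂ)⁻¹ * ∑ g : G, ind (S.data.x j) (S.pt g) * S.sqSum g = 1 := fun j => by
    rw [S.avg_sqSum ⟨1, by rw [pow_one]; exact S.orderOf_x j⟩, S.rank_x, Nat.cast_one]
  rw [hk, sum_congr rfl fun g _ => (one_mul (S.sqSum g)).symm.trans (by rw [← S.partition_one g])]
  simp only [add_mul, sum_mul, sum_add_distrib, mul_add]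
  rw [hreg, S.avg_sqSum S.orderOf_rep_z, S.avg_sqSum_z_sq, sum_comm, mul_sum,
    sum_congr rfl fun j _ => hx j, sum_const, card_univ, Fintype.card_fin]
  simp only [centralRank, nsmul_eq_mul, mul_one]
  ring

/-- The characters not fixed by the twist. -/
noncomputable def moved : Finset (IrrCharacter G) := S.blk.filter fun χ => S.twist χ ≠ χ

theorem card_moved : S.moved.card = 2 * S.centralRank := by
  have h1 : (S.moved.card : ℂ) = ∑ χ ∈ S.blk, classInner (χ : G → ℂ) (S.diff χ) := by
    rw [moved, ← sum_boole]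
    refine sum_congr rfl fun χ _ => ?_
    rw [show S.diff χ = (χ : G → ℂ) - (S.twist χ : G → ℂ) from rfl, Char.classInner_sub_right, Char.classInner_irr_self,
      Char.classInner_irr]
    by_cases h : S.twist χ = χ
    · simp [h]
    · simp [h, Ne.symm h]
  have h2 : ∀ g, ∑ χ ∈ S.blk, (χ : G → ℂ) g * conj (S.diff χ g) = zzFun z (S.pt g) * S.sqSum g := by
    intro g
    have hc : conj (zzFun z (S.pt g)) = zzFun z (S.pt g) := by
      simp only [zzFun, ind]; split_ifs <;> simp
    rw [sum_congr rfl (g := fun χ : IrrCharacter G => zzFun z (S.pt g) *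
      ((χ : G → ℂ) g * conj ((χ : G → ℂ) g) - (χ : G → ℂ) g * conj ((χ : G → ℂ) (g ^ S.k))))
      fun χ hχ => by
        rw [S.diff_zz hχ g, map_mul, hc, diff, twist_apply, map_sub]; ring,
      ← mul_sum, sum_sub_distrib]
    by_cases hz : zzFun z (S.pt g) = 0
    · rw [hz, zero_mul, zero_mul]
    rw [show ∑ χ ∈ S.blk, (χ : G → ℂ) g * conj ((χ : G → ℂ) (g ^ S.k)) = 0 from ?_, sub_zero]
    · rfl
    obtain ⟨y, -, -, -, -, e⟩ := S.pow_eq g
    rw [S.sum_blk]
    refine blockUnion_orthogonal_conj S.hM (.of_isPBlock (isPBlock_principalBlock (M := M) (G := G)))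
      (isPPart_pPt S.hM g) (isPPart_pPt S.hM _) ?_
    show ¬ IsConj (S.pt g) (S.pt (g ^ S.k))
    rw [e]
    intro hc'
    have h3 := Char.classFun_isConj (isClassFunction_eps z) hc'
    rw [S.eps_inv, eq_neg_iff_add_eq_zero, ← two_mul, mul_eq_zero] at h3
    exact hz (by rw [← S.eps_sq, h3.resolve_left two_ne_zero, mul_zero])
  have h3 : (S.moved.card : ℂ) = 2 * (S.centralRank : ℂ) := by
    rw [h1]
    simp only [classInner]
    rw [← mul_sum, sum_comm, sum_congr rfl fun g _ => h2 g]
    simp only [zzFun, add_mul, sum_add_distrib, mul_add]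
    rw [S.avg_sqSum S.orderOf_rep_z, S.avg_sqSum_z_sq, centralRank]
    ring
  exact_mod_cast h3

end CfsgLib.Block.ExtraThree.Setting
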