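import Cfsg.Agent.Lib.Block.ExtraThree.Congruence
import Cfsg.Agent.Lib.Block.ExtraThree.Totals

/-!
# The structure of the rows `T(·, p)`

Integral consequences: a pair of positive height doubles one fixed row all of whose values at the
non-central elements are units.
-/

set_option autoImplicit false
set_option linter.unusedSectionVars false

open Finset
open scoped ComplexConjugate Classical

namespace CfsgLib.Block.ExtraThree

theorem even_not_three_sq {a : ℤ} (h2 : 2 ∣ a) (h3 : ¬ 3 ∣ a) (hle : a * a ≤ 54) :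
    a = 2 ∨ a = -2 ∨ a = 4 ∨ a = -4 := by
  have h1 : -8 < a := by nlinarith
  have h4 : a < 8 := by nlinarith
  omega

theorem three_sq_sub_one {a : ℤ} (h3 : ¬ 3 ∣ a) : 3 ∣ a * a - 1 := by
  apply Int.dvd_of_emod_eq_zero
  rcases (show a % 3 = 1 ∨ a % 3 = 2 by omega) with h | h <;>
    rw [Int.sub_emod, Int.mul_emod, h] <;> norm_num

theorem odd_three_sq {a : ℤ} (h2 : ¬ 2 ∣ a) (h3 : 3 ∣ a) : 9 ≤ a * a := by
  have : a ≤ -3 ∨ 3 ≤ a := by omega
  rcases this with h | h <;> nlinarith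

theorem six_sq {a : ℤ} (h2 : 2 ∣ a) (h3 : 3 ∣ a) (h0 : a ≠ 0) : 36 ≤ a * a := by
  have : a ≤ -6 ∨ 6 ≤ a := by omega
  rcases this with h | h <;> nlinarith

namespace Setting

open Cfsg CfsgLib CfsgLib.Block

universe u

variable {G : Type u} [Group G] [Fintype G] [DecidableEq G] [Fintype (IrrCharacter G)]
  {M : Ideal AlgInt} [M.IsMaximal] {P : Sylow 3 G} {z : G} {m : ℕ} (S : Setting M P z m)

theorem mem_moved {p : IrrCharacter G} : p ∈ S.moved ↔ p ∈ S.blk ∧ S.twist p ≠ p := mem_filter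

theorem twist_moved {p : IrrCharacter G} (hp : p ∈ S.moved) : S.twist p ∈ S.moved := by
  obtain ⟨h1, h2⟩ := S.mem_moved.mp hp
  exact S.mem_moved.mpr ⟨S.twist_mem h1, by rw [S.twist_twist]; exact h2.symm⟩

theorem deg_twist (χ : IrrCharacter G) : deg (S.twist χ) = deg χ := by
  have h : ((deg (S.twist χ) : ℤ) : ℂ) = (deg χ : ℤ) := by rw [coe_deg, coe_deg, S.twist_degree]
  exact_mod_cast h

theorem col_twist {χ : IrrCharacter G} (hχ : χ ∈ S.blk) (j : Fin m) :
    S.col (S.twist χ) j = S.col χ j := by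
  have h := S.twist_x hχ (g := S.data.x j) (j := j)
    (by rw [show S.pt (S.data.x j) = S.data.x j from pPt_eq S.hM (S.isPPart_x j)])
  rw [← S.coe_col, ← S.coe_col] at h
  exact_mod_cast h

theorem Ti_twist (θ p : IrrCharacter G) : S.Ti (S.twist θ) p = S.Ti θ p := by
  have h : ((S.Ti (S.twist θ) p : ℤ) : ℂ) = (S.Ti θ p : ℤ) := by
    rw [S.coe_Ti, S.coe_Ti, S.T_twist_left]
  exact_mod_cast h

theorem Ti_parity {θ p : IrrCharacter G} (hp : p ∈ S.moved) :
    (θ = p ∨ θ = S.twist p → ¬ (2 : ℤ) ∣ S.Ti θ p) ∧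
      (¬ (θ = p ∨ θ = S.twist p) → (2 : ℤ) ∣ S.Ti θ p) := by
  obtain ⟨hpb, hne⟩ := S.mem_moved.mp hp
  obtain ⟨X, hX⟩ := S.exists_T_parity θ p hpb
  rw [S.inner_diff, ← S.coe_Ti] at hX
  refine ⟨fun h => ?_, fun h => ?_⟩
  · rcases h with h | h
    · rw [if_pos h, if_neg fun e => hne (e.symm.trans h)] at hX
      have e : S.Ti θ p = 2 * X + 3 := by
        apply Int.cast_injective (α := ℂ)
        push_cast
        linear_combination hX
      omega
    · rw [if_pos h, if_neg fun e => hne (h.symm.trans e)] at hX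
      have e : S.Ti θ p = 2 * X - 3 := by
        apply Int.cast_injective (α := ℂ)
        push_cast
        linear_combination hX
      omega
  · push Not at h
    rw [if_neg h.1, if_neg h.2] at hX
    have e : S.Ti θ p = 2 * X := by
      apply Int.cast_injective (α := ℂ)
      push_cast
      linear_combination hX
    exact ⟨X, e⟩

theorem Ti_three {θ p : IrrCharacter G} (hθ : θ ∈ S.blk) (hp : p ∈ S.moved)
    (h3 : (3 : ℤ) ∣ deg θ) : (3 : ℤ) ∣ S.Ti θ p := by
  have h := S.dvd_T_sub hθ (S.mem_moved.mp hp).1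
  have h2 : (3 : ℤ) ∣ deg θ * S.Ti (oneChar G) p := Dvd.dvd.mul_right h3 _
  omega

theorem norm_Ti {p : IrrCharacter G} (hp : p ∈ S.moved) :
    ∑ θ ∈ S.blk, S.Ti θ p * S.Ti θ p = 54 := by
  obtain ⟨hpb, hne⟩ := S.mem_moved.mp hp
  have h := S.sum_T_mul (q := p) hpb
  conv_rhs at h => rw [show S.diff p = (p : G → ℂ) - (S.twist p : G → ℂ) from rfl]
  rw [Char.classInner_sub_left, Char.classInner_sub_right, Char.classInner_sub_right,
    Char.classInner_irr_self, Char.classInner_irr_self, Char.classInner_irr_ne hne,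
    Char.classInner_irr_ne (Ne.symm hne)] at h
  simp only [← S.coe_Ti] at h
  apply Int.cast_injective (α := ℂ)
  push_cast
  linear_combination h

theorem orth_Ti {p q : IrrCharacter G} (hp : p ∈ S.blk) (h1 : q ≠ p) (h2 : q ≠ S.twist p) :
    ∑ θ ∈ S.blk, S.Ti θ p * S.Ti θ q = 0 := by
  have h := S.sum_T_mul (q := q) hp
  conv_rhs at h => rw [show S.diff p = (p : G → ℂ) - (S.twist p : G → ℂ) from rfl]
  rw [Char.classInner_sub_left, S.inner_diff, S.inner_diff, if_neg h1.symm, if_neg h2.symm,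
    if_neg fun e => h2 (by rw [e, S.twist_twist]),
    if_neg fun e => h1 (by rw [← S.twist_twist p, e, S.twist_twist])] at h
  simp only [← S.coe_Ti] at h
  apply Int.cast_injective (α := ℂ)
  push_cast
  linear_combination h

theorem col_Ti {p : IrrCharacter G} (hp : p ∈ S.moved) (j : Fin m) :
    ∑ θ ∈ S.zeroRows, S.Ti θ p * S.col θ j = 0 := by
  have h := S.sum_T_x (S.mem_moved.mp hp).1 j
  simp only [← S.coe_Ti, ← S.coe_col] at h
  have h' : ∑ θ ∈ S.blk, S.Ti θ p * S.col θ j = 0 := by exact_mod_cast h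
  rwa [S.columns.sum_hrows _ j fun θ _ e => by rw [e, mul_zero]] at h'

/-- A positive row outside a pair is killed by it. -/
theorem Ti_other {θ p : IrrCharacter G} (hp : p ∈ S.moved) (hθ : θ ∈ S.moved) (h1 : θ ≠ p)
    (h2 : θ ≠ S.twist p) (h3 : (3 : ℤ) ∣ deg θ) : S.Ti θ p = 0 := by
  by_contra h0
  obtain ⟨hθb, hθne⟩ := S.mem_moved.mp hθ
  have hsix := six_sq ((S.Ti_parity hp).2 (not_or_intro h1 h2)) (S.Ti_three hθb hp h3) h0
  have h := Finset.sum_le_sum_of_subset_of_nonneg (f := fun χ => S.Ti χ p * S.Ti χ p)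
    (show ({θ, S.twist θ} : Finset (IrrCharacter G)) ⊆ S.blk from by
      intro χ hχ
      rcases mem_insert.mp hχ with rfl | hχ
      · exact hθb
      · exact mem_singleton.mp hχ ▸ S.twist_mem hθb) fun χ _ _ => mul_self_nonneg _
  rw [S.norm_Ti hp, sum_pair (Ne.symm hθne), S.Ti_twist] at h
  linarith

theorem own_sq {p : IrrCharacter G} (hp : p ∈ S.moved) (h3 : (3 : ℤ) ∣ deg p) :
    9 ≤ S.Ti p p * S.Ti p p :=
  odd_three_sq ((S.Ti_parity hp).1 (Or.inl rfl)) (S.Ti_three (S.mem_moved.mp hp).1 hp h3)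

variable [NeZero m]

/-- For a pair of positive height `T(1, p)` is prime to 3. -/
theorem Ti_one_not_dvd {p : IrrCharacter G} (hp : p ∈ S.moved) (h3 : (3 : ℤ) ∣ deg p) :
    ¬ (3 : ℤ) ∣ S.Ti (oneChar G) p := by
  intro h1
  obtain ⟨hpb, hne⟩ := S.mem_moved.mp hp
  have hop : oneChar G ≠ p := fun e => by rw [← e, deg_one] at h3; norm_num at h3
  have hop' : oneChar G ≠ S.twist p := fun e => by
    rw [← S.deg_twist p, ← e, deg_one] at h3; norm_num at h3
  have hall : ∀ θ ∈ S.blk, (3 : ℤ) ∣ S.Ti θ p := fun θ hθ => by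
    have h := S.dvd_T_sub hθ hpb
    have h' : (3 : ℤ) ∣ deg θ * S.Ti (oneChar G) p := Dvd.dvd.mul_left h1 _
    omega
  have hown := S.own_sq hp h3
  have hzero : S.Ti (oneChar G) p = 0 := by
    by_contra h0
    have h36 := six_sq ((S.Ti_parity hp).2 (not_or_intro hop hop')) h1 h0
    have hsub : ∀ θ ∈ S.zeroRows, θ ≠ oneChar G → S.Ti θ p = 0 := by
      intro θ hθ hθ1
      obtain ⟨hθb, hθ3⟩ := mem_filter.mp hθ
      by_contra hθ0
      have hθp : θ ≠ p := fun e => hθ3 (e ▸ h3)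
      have hθp' : θ ≠ S.twist p := fun e => hθ3 (by rw [e, S.deg_twist]; exact h3)
      have h36' := six_sq ((S.Ti_parity hp).2 (not_or_intro hθp hθp')) (hall θ hθb) hθ0
      have h := Finset.sum_le_sum_of_subset_of_nonneg (f := fun χ => S.Ti χ p * S.Ti χ p)
        (show ({θ, oneChar G} : Finset (IrrCharacter G)) ⊆ S.blk from by
          intro χ hχ
          rcases mem_insert.mp hχ with rfl | hχ
          · exact hθb
          · exact mem_singleton.mp hχ ▸ S.one_mem_blk) fun χ _ _ => mul_self_nonneg _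
      rw [S.norm_Ti hp, sum_pair hθ1] at h
      linarith
    have h := S.col_Ti hp 0
    rw [Finset.sum_eq_single (f := fun θ => S.Ti θ p * S.col θ 0) (oneChar G)
      (fun θ hθ hne' => by rw [hsub θ hθ hne', zero_mul])
      (fun hn => absurd (show oneChar G ∈ S.zeroRows from S.columns.one_hrow) hn), S.columns.d_one,
      mul_one] at h
    exact h0 h
  -- the central part of `⟨p, 1⟩` vanishes
  apply S.zz_inner_ne_zero hpb h3
  have hkey := S.zz_inner_one hpb
  have hsum : ∑ θ ∈ S.blk, S.T p θ * S.W (oneChar G) θ = 0 := by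
    rw [← Finset.sum_subset (show ({p, S.twist p} : Finset (IrrCharacter G)) ⊆ S.blk from by
      intro χ hχ
      rcases mem_insert.mp hχ with rfl | hχ
      · exact hpb
      · exact mem_singleton.mp hχ ▸ S.twist_mem hpb) fun θ hθ hn => ?_, sum_pair hne.symm]
    · have e : S.T p (S.twist p) = -S.T p p := S.T_twist_right p p
      rw [e]
      have hT1 : S.T (oneChar G) p = 0 := by rw [← S.coe_Ti, hzero, Int.cast_zero]
      rw [S.T_eq] at hT1
      linear_combination (S.T p p) * hT1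
    · simp only [mem_insert, mem_singleton, not_or] at hn
      by_cases hf : S.twist θ = θ
      · rw [S.T_eq, hf, sub_self, zero_mul]
      · rw [← S.coe_Ti, S.Ti_other (S.mem_moved.mpr ⟨hθ, hf⟩) hp (Ne.symm hn.1)
          (fun e => hn.2 (by rw [e, S.twist_twist])) h3, Int.cast_zero, zero_mul]
  rw [hsum] at hkey
  linear_combination hkey / 54

/-- The two rows of a pair of positive height and the rows of height zero. -/
theorem budget {p : IrrCharacter G} (hp : p ∈ S.moved) (h3 : (3 : ℤ) ∣ deg p) :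
    18 + ∑ θ ∈ S.zeroRows, S.Ti θ p * S.Ti θ p ≤ 54 ∧
      ∀ θ ∈ S.blk, θ ∉ S.zeroRows → θ ≠ p → θ ≠ S.twist p → S.Ti θ p ≠ 0 →
        54 + ∑ χ ∈ S.zeroRows, S.Ti χ p * S.Ti χ p ≤ 54 := by
  obtain ⟨hpb, hne⟩ := S.mem_moved.mp hp
  have hown := S.own_sq hp h3
  have hp0 : p ∉ S.zeroRows := fun h => (mem_filter.mp h).2 h3
  have hp0' : S.twist p ∉ S.zeroRows := fun h =>
    (mem_filter.mp h).2 (by rw [S.deg_twist]; exact h3)
  have hsub : S.zeroRows ⊆ S.blk := filter_subset _ _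
  constructor
  · have h := Finset.sum_le_sum_of_subset_of_nonneg (f := fun χ => S.Ti χ p * S.Ti χ p)
      (show insert p (insert (S.twist p) S.zeroRows) ⊆ S.blk from
        insert_subset_iff.mpr ⟨hpb, insert_subset_iff.mpr ⟨S.twist_mem hpb, hsub⟩⟩)
      fun χ _ _ => mul_self_nonneg _
    rw [S.norm_Ti hp, sum_insert (by simp [hp0, Ne.symm hne]), sum_insert hp0', S.Ti_twist] at h
    linarith
  · intro θ hθ hθ0 h1 h2 hne0
    have hθ3 : (3 : ℤ) ∣ deg θ := by
      by_contra hn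
      exact hθ0 (mem_filter.mpr ⟨hθ, hn⟩)
    have h36 := six_sq ((S.Ti_parity hp).2 (not_or_intro h1 h2)) (S.Ti_three hθ hp hθ3) hne0
    have h := Finset.sum_le_sum_of_subset_of_nonneg (f := fun χ => S.Ti χ p * S.Ti χ p)
      (show insert θ (insert p (insert (S.twist p) S.zeroRows)) ⊆ S.blk from
        insert_subset_iff.mpr ⟨hθ, insert_subset_iff.mpr ⟨hpb, insert_subset_iff.mpr
          ⟨S.twist_mem hpb, hsub⟩⟩⟩)
      fun χ _ _ => mul_self_nonneg _
    rw [S.norm_Ti hp, sum_insert (by simp [hθ0, h1, h2]), sum_insert (by simp [hp0, Ne.symm hne]),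
      sum_insert hp0', S.Ti_twist] at h
    linarith

theorem entries {p : IrrCharacter G} (hp : p ∈ S.moved) (h3 : (3 : ℤ) ∣ deg p)
    {θ : IrrCharacter G} (hθ : θ ∈ S.zeroRows) :
    S.Ti θ p = 2 ∨ S.Ti θ p = -2 ∨ S.Ti θ p = 4 ∨ S.Ti θ p = -4 := by
  obtain ⟨hθb, hθ3⟩ := mem_filter.mp hθ
  have hθp : θ ≠ p := fun e => hθ3 (e ▸ h3)
  have hθp' : θ ≠ S.twist p := fun e => hθ3 (by rw [e, S.deg_twist]; exact h3)
  refine even_not_three_sq ((S.Ti_parity hp).2 (not_or_intro hθp hθp')) ?_ ?_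
  · have h := S.dvd_T_sub hθb (S.mem_moved.mp hp).1
    have hn : ¬ (3 : ℤ) ∣ deg θ * S.Ti (oneChar G) p := fun hd =>
      (Int.prime_three.dvd_or_dvd hd).elim hθ3 (S.Ti_one_not_dvd hp h3)
    omega
  · exact le_trans (Finset.single_le_sum (f := fun χ => S.Ti χ p * S.Ti χ p)
      (fun χ _ => mul_self_nonneg _) hθb) (S.norm_Ti hp).le

/-- The products with a column are congruent to `T(1, p)`. -/
theorem prod_congr_mod {p : IrrCharacter G} (hp : p ∈ S.moved) {θ : IrrCharacter G}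
    (hθ : θ ∈ S.zeroRows) (j : Fin m) :
    (3 : ℤ) ∣ S.Ti θ p * S.col θ j - S.Ti (oneChar G) p := by
  obtain ⟨hθb, hθ3⟩ := mem_filter.mp hθ
  obtain ⟨a, ha⟩ := S.dvd_T_sub hθb (S.mem_moved.mp hp).1
  obtain ⟨b, hb⟩ := S.col_congr θ j
  obtain ⟨c, hc⟩ : (3 : ℤ) ∣ deg θ * deg θ - 1 := three_sq_sub_one hθ3
  exact ⟨a * S.col θ j + b * deg θ * S.Ti (oneChar G) p + c * S.Ti (oneChar G) p, by
    linear_combination (S.col θ j) * ha + (deg θ * S.Ti (oneChar G) p) * hb +
      (S.Ti (oneChar G) p) * hc⟩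

/-- With nine rows of height zero there is no pair of positive height. -/
theorem no_positive_of_nine (h9 : S.zeroRows.card = 9) {p : IrrCharacter G} (hp : p ∈ S.moved) :
    ¬ (3 : ℤ) ∣ deg p := by
  intro h3
  have hb := (S.budget hp h3).1
  have hc : ∀ θ ∈ S.zeroRows, S.Ti θ p * S.Ti θ p = 4 := by
    intro θ hθ
    have hmin : ∀ χ ∈ S.zeroRows.erase θ, (4 : ℤ) ≤ S.Ti χ p * S.Ti χ p := fun χ hχ => by
      rcases S.entries hp h3 (mem_erase.mp hχ).2 with e | e | e | e <;> rw [e] <;> norm_num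
    have h := Finset.card_nsmul_le_sum _ _ _ hmin
    rw [card_erase_of_mem hθ, h9, nsmul_eq_mul] at h
    rw [← add_sum_erase _ _ hθ] at hb
    push_cast at h
    rcases S.entries hp h3 hθ with e | e | e | e <;> rw [e] at hb ⊢ <;> norm_num at hb ⊢ <;> linarith
  have hcol : ∀ θ ∈ S.zeroRows, S.col θ 0 * S.col θ 0 = 1 := by
    intro θ hθ
    have h := S.columns.card_add 0
    have hz : dbl S.blk deg S.col 0 = ∅ := Finset.card_eq_zero.mp (by
      have h9' : (hrows S.blk deg).card = 9 := h9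
      omega)
    rcases S.columns.entry hθ 0 with e | e | e | e
    · rw [e]; norm_num
    · rw [e]; norm_num
    · exact absurd (mem_filter.mpr ⟨hθ, by rw [e]; norm_num⟩)
        (Finset.eq_empty_iff_forall_notMem.mp hz θ)
    · exact absurd (mem_filter.mpr ⟨hθ, by rw [e]; norm_num⟩)
        (Finset.eq_empty_iff_forall_notMem.mp hz θ)
  have hone : oneChar G ∈ S.zeroRows := S.columns.one_hrow
  have hval : ∀ θ ∈ S.zeroRows, S.Ti θ p * S.col θ 0 = S.Ti (oneChar G) p := by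
    intro θ hθ
    have h1 := S.prod_congr_mod hp hθ 0
    have e1 : (S.Ti θ p * S.col θ 0) * (S.Ti θ p * S.col θ 0) = 2 * 2 := by
      linear_combination (S.Ti θ p * S.Ti θ p) * hcol θ hθ + hc θ hθ
    have e2 := hc _ hone
    have a1 := mul_self_eq_mul_self_iff.mp e1
    have a2 := mul_self_eq_mul_self_iff.mp (e2.trans (show (4 : ℤ) = 2 * 2 by norm_num))
    rcases a1 with a | a <;> rcases a2 with b | b <;> rw [a, b] at h1 ⊢ <;> omega
  have h := S.col_Ti hp 0
  rw [sum_congr rfl hval, sum_const, h9, nsmul_eq_mul] at h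
  have := S.Ti_one_not_dvd hp h3
  push_cast at h
  omega

/-- The doubled rows of a pair. -/
noncomputable def big (p : IrrCharacter G) : Finset (IrrCharacter G) :=
  S.zeroRows.filter fun θ => S.Ti θ p * S.Ti θ p = 16

theorem sum_sq_eq {p : IrrCharacter G} (hp : p ∈ S.moved) (h3 : (3 : ℤ) ∣ deg p)
    (h6 : S.zeroRows.card = 6) :
    ∑ θ ∈ S.zeroRows, S.Ti θ p * S.Ti θ p = 24 + 12 * (S.big p).card := by
  rw [sum_congr rfl (g := fun θ => 4 + 12 * (if S.Ti θ p * S.Ti θ p = 16 then (1 : ℤ) else 0))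
    fun θ hθ => by rcases S.entries hp h3 hθ with e | e | e | e <;> rw [e] <;> norm_num,
    sum_add_distrib, ← mul_sum, sum_boole, sum_const, h6]
  norm_num [big]

theorem card_big {p : IrrCharacter G} (hp : p ∈ S.moved) (h3 : (3 : ℤ) ∣ deg p)
    (h6 : S.zeroRows.card = 6) :
    (S.big p).card = 1 ∧
      ∀ θ ∈ S.blk, θ ∉ S.zeroRows → θ ≠ p → θ ≠ S.twist p → S.Ti θ p = 0 := by
  obtain ⟨hpb, hne⟩ := S.mem_moved.mp hp
  have hs := S.sum_sq_eq hp h3 h6
  obtain ⟨hb, hrest⟩ := S.budget hp h3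
  have hz : ∀ θ ∈ S.blk, θ ∉ S.zeroRows → θ ≠ p → θ ≠ S.twist p → S.Ti θ p = 0 := by
    intro θ hθ h0 h1 h2
    by_contra hne0
    have h := hrest θ hθ h0 h1 h2 hne0
    rw [hs] at h
    have : (0 : ℤ) ≤ (S.big p).card := Int.natCast_nonneg _
    linarith
  refine ⟨?_, hz⟩
  have hp0 : p ∉ S.zeroRows := fun h => (mem_filter.mp h).2 h3
  have hp0' : S.twist p ∉ S.zeroRows := fun h =>
    (mem_filter.mp h).2 (by rw [S.deg_twist]; exact h3)
  have hn := S.norm_Ti hp
  rw [← Finset.sum_subset (show insert p (insert (S.twist p) S.zeroRows) ⊆ S.blk from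
      insert_subset_iff.mpr ⟨hpb, insert_subset_iff.mpr ⟨S.twist_mem hpb, filter_subset _ _⟩⟩)
    (fun θ hθ hn' => by
      simp only [mem_insert, not_or] at hn'
      rw [hz θ hθ hn'.2.2 hn'.1 hn'.2.1, mul_zero]),
    sum_insert (by simp [hp0, Ne.symm hne]), sum_insert hp0', S.Ti_twist, hs] at hn
  have hown := S.own_sq hp h3
  have hodd := (S.Ti_parity hp).1 (Or.inl rfl)
  have ht : S.Ti p p * S.Ti p p = 9 := by
    rcases lt_or_ge (S.Ti p p * S.Ti p p) 25 with h | h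
    · have h1 : -5 < S.Ti p p := by nlinarith
      have h2 : S.Ti p p < 5 := by nlinarith
      have h4 := S.Ti_three hpb hp h3
      rcases (show S.Ti p p = 3 ∨ S.Ti p p = -3 by omega) with e | e <;> rw [e] <;> norm_num
    · have h4 := S.Ti_three hpb hp h3
      have : S.Ti p p ≤ -5 ∨ 5 ≤ S.Ti p p := by
        rcases le_or_gt (S.Ti p p) 0 with h0 | h0
        · left; by_contra hc; nlinarith
        · right; by_contra hc; nlinarith
      exfalso
      rcases this with h5 | h5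
      · have : S.Ti p p ≤ -9 := by omega
        nlinarith
      · have : 9 ≤ S.Ti p p := by omega
        nlinarith
  omega

theorem big_fixed {p θ : IrrCharacter G} (hp : p ∈ S.moved) (h3 : (3 : ℤ) ∣ deg p)
    (h6 : S.zeroRows.card = 6) (hθ : θ ∈ S.big p) : S.twist θ = θ := by
  obtain ⟨hθ0, hsq⟩ := mem_filter.mp hθ
  obtain ⟨hθb, hθ3⟩ := mem_filter.mp hθ0
  obtain ⟨c, hc⟩ := Finset.card_eq_one.mp (S.card_big hp h3 h6).1
  have h1 : S.twist θ ∈ S.big p := mem_filter.mpr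
    ⟨mem_filter.mpr ⟨S.twist_mem hθb, by rw [S.deg_twist]; exact hθ3⟩, by rw [S.Ti_twist]; exact hsq⟩
  rw [hc, mem_singleton] at hθ h1
  rw [hθ, ← hθ, h1, hθ]

theorem big_unit {p θ : IrrCharacter G} (hp : p ∈ S.moved) (h3 : (3 : ℤ) ∣ deg p)
    (h6 : S.zeroRows.card = 6) (hθ : θ ∈ S.big p) (j : Fin m) : S.col θ j * S.col θ j = 1 := by
  by_contra hne1
  obtain ⟨hθ0, hsq⟩ := mem_filter.mp hθ
  have hθd : θ ∈ dbl S.blk deg S.col j := by
    refine mem_filter.mpr ⟨hθ0, ?_⟩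
    rcases S.columns.entry hθ0 j with e | e | e | e <;> rw [e] at hne1 ⊢ <;> revert hne1 <;> norm_num
  obtain ⟨c, hc⟩ := Finset.card_eq_one.mp (S.columns.dbl_eq h6 j)
  obtain ⟨b, hb⟩ := Finset.card_eq_one.mp (S.card_big hp h3 h6).1
  have hoth : ∀ χ ∈ S.zeroRows.erase θ, (S.Ti χ p * S.col χ j) * (S.Ti χ p * S.col χ j) = 2 * 2 := by
    intro χ hχ
    obtain ⟨hne, hχ0⟩ := mem_erase.mp hχ
    have h1 : S.Ti χ p * S.Ti χ p = 4 := by
      have hn : χ ∉ S.big p := fun h => hne (by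
        rw [hb, mem_singleton] at h hθ; rw [h, hθ])
      have hn' : S.Ti χ p * S.Ti χ p ≠ 16 := fun h => hn (mem_filter.mpr ⟨hχ0, h⟩)
      rcases S.entries hp h3 hχ0 with e | e | e | e <;> rw [e] at hn' ⊢ <;> revert hn' <;> norm_num
    have h2 : S.col χ j * S.col χ j = 1 := by
      have hn : χ ∉ dbl S.blk deg S.col j := fun h => hne (by
        rw [hc, mem_singleton] at h hθd; rw [h, hθd])
      have hn' : S.col χ j * S.col χ j ≠ 4 := fun h => hn (mem_filter.mpr ⟨hχ0, h⟩)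
      rcases S.columns.entry hχ0 j with e | e | e | e <;> rw [e] at hn' ⊢ <;> revert hn' <;> norm_num
    linear_combination (S.Ti χ p * S.Ti χ p) * h2 + h1
  have hself : (S.Ti θ p * S.col θ j) * (S.Ti θ p * S.col θ j) = 8 * 8 := by
    linear_combination (S.Ti θ p * S.Ti θ p) * (mem_filter.mp hθd).2 + 4 * hsq
  have hT1 := S.Ti_one_not_dvd hp h3
  have h := S.col_Ti hp j
  rw [← add_sum_erase _ _ hθ0] at h
  have hsum : ∀ v : ℤ, (∀ χ ∈ S.zeroRows.erase θ, S.Ti χ p * S.col χ j = v) →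
      ∑ χ ∈ S.zeroRows.erase θ, S.Ti χ p * S.col χ j = 5 * v := fun v hv => by
    rw [sum_congr rfl hv, sum_const, card_erase_of_mem hθ0, h6, nsmul_eq_mul]
    norm_num
  have hself' := S.prod_congr_mod hp hθ0 j
  rcases mul_self_eq_mul_self_iff.mp hself with a | a <;> rw [a] at hself'
  · have := hsum 2 fun χ hχ => by
      have h1 := S.prod_congr_mod hp (mem_erase.mp hχ).2 j
      rcases mul_self_eq_mul_self_iff.mp (hoth χ hχ) with e | e <;> rw [e] at h1 ⊢ <;> omega
    omega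
  · have := hsum (-2) fun χ hχ => by
      have h1 := S.prod_congr_mod hp (mem_erase.mp hχ).2 j
      rcases mul_self_eq_mul_self_iff.mp (hoth χ hχ) with e | e <;> rw [e] at h1 ⊢ <;> omega
    omega

theorem big_injective {p q θ : IrrCharacter G} (hp : p ∈ S.moved) (h3p : (3 : ℤ) ∣ deg p)
    (hq : q ∈ S.moved) (h3q : (3 : ℤ) ∣ deg q) (h6 : S.zeroRows.card = 6)
    (hθp : θ ∈ S.big p) (hθq : θ ∈ S.big q) : q = p ∨ q = S.twist p := by
  by_contra hcon
  push Not at hcon
  obtain ⟨hθ0, hsqp⟩ := mem_filter.mp hθp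
  obtain ⟨-, hsqq⟩ := mem_filter.mp hθq
  have hout : ∀ χ ∈ S.blk, χ ∉ S.zeroRows → S.Ti χ p * S.Ti χ q = 0 := by
    intro χ hχ h0
    by_cases h1 : χ = p ∨ χ = S.twist p
    · rw [mul_eq_zero]; right
      refine (S.card_big hq h3q h6).2 χ hχ h0 ?_ ?_
      · rcases h1 with rfl | rfl
        · exact hcon.1.symm
        · exact hcon.2.symm
      · intro e
        rcases h1 with rfl | rfl
        · exact hcon.2 (by rw [e, S.twist_twist])
        · exact hcon.1 (by rw [← S.twist_twist q, ← e, S.twist_twist])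
    · push Not at h1
      rw [(S.card_big hp h3p h6).2 χ hχ h0 h1.1 h1.2, zero_mul]
  have hsum := S.orth_Ti (S.mem_moved.mp hp).1 hcon.1 hcon.2
  have hsub : S.zeroRows ⊆ S.blk := filter_subset _ _
  rw [← Finset.sum_subset hsub hout] at hsum
  obtain ⟨b, hb⟩ := Finset.card_eq_one.mp (S.card_big hp h3p h6).1
  obtain ⟨c, hc⟩ := Finset.card_eq_one.mp (S.card_big hq h3q h6).1
  have hoth : ∀ χ ∈ S.zeroRows.erase θ, (S.Ti χ p * S.Ti χ q) * (S.Ti χ p * S.Ti χ q) = 4 * 4 := by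
    intro χ hχ
    obtain ⟨hne, hχ0⟩ := mem_erase.mp hχ
    have h1 : S.Ti χ p * S.Ti χ p = 4 := by
      have hn : χ ∉ S.big p := fun h => hne (by
        rw [hb, mem_singleton] at h hθp; rw [h, hθp])
      have hn' : S.Ti χ p * S.Ti χ p ≠ 16 := fun h => hn (mem_filter.mpr ⟨hχ0, h⟩)
      rcases S.entries hp h3p hχ0 with e | e | e | e <;> rw [e] at hn' ⊢ <;> revert hn' <;> norm_num
    have h2 : S.Ti χ q * S.Ti χ q = 4 := by
      have hn : χ ∉ S.big q := fun h => hne (by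
        rw [hc, mem_singleton] at h hθq; rw [h, hθq])
      have hn' : S.Ti χ q * S.Ti χ q ≠ 16 := fun h => hn (mem_filter.mpr ⟨hχ0, h⟩)
      rcases S.entries hq h3q hχ0 with e | e | e | e <;> rw [e] at hn' ⊢ <;> revert hn' <;> norm_num
    linear_combination (S.Ti χ p * S.Ti χ p) * h2 + 4 * h1
  have hself : (S.Ti θ p * S.Ti θ q) * (S.Ti θ p * S.Ti θ q) = 16 * 16 := by
    linear_combination (S.Ti θ p * S.Ti θ p) * hsqq + 16 * hsqp
  have hmod : ∀ χ ∈ S.zeroRows,
      (3 : ℤ) ∣ S.Ti χ p * S.Ti χ q - S.Ti (oneChar G) p * S.Ti (oneChar G) q := by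
    intro χ hχ
    obtain ⟨hχb, hχ3⟩ := mem_filter.mp hχ
    obtain ⟨a, ha⟩ := S.dvd_T_sub hχb (S.mem_moved.mp hp).1
    obtain ⟨b, hb⟩ := S.dvd_T_sub hχb (S.mem_moved.mp hq).1
    obtain ⟨c, hc⟩ : (3 : ℤ) ∣ deg χ * deg χ - 1 := three_sq_sub_one hχ3
    exact ⟨a * S.Ti χ q + b * deg χ * S.Ti (oneChar G) p +
      c * S.Ti (oneChar G) p * S.Ti (oneChar G) q, by
      linear_combination (S.Ti χ q) * ha + (deg χ * S.Ti (oneChar G) p) * hb +
        (S.Ti (oneChar G) p * S.Ti (oneChar G) q) * hc⟩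
  rw [← add_sum_erase _ _ hθ0] at hsum
  have hsum' : ∀ v : ℤ, (∀ χ ∈ S.zeroRows.erase θ, S.Ti χ p * S.Ti χ q = v) →
      ∑ χ ∈ S.zeroRows.erase θ, S.Ti χ p * S.Ti χ q = 5 * v := fun v hv => by
    rw [sum_congr rfl hv, sum_const, card_erase_of_mem hθ0, h6, nsmul_eq_mul]
    norm_num
  have hself' := hmod θ hθ0
  rcases mul_self_eq_mul_self_iff.mp hself with a | a <;> rw [a] at hself'
  · have := hsum' 4 fun χ hχ => by
      have h1 := hmod χ (mem_erase.mp hχ).2
      rcases mul_self_eq_mul_self_iff.mp (hoth χ hχ) with e | e <;> rw [e] at h1 ⊢ <;> omega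
    omega
  · have := hsum' (-4) fun χ hχ => by
      have h1 := hmod χ (mem_erase.mp hχ).2
      rcases mul_self_eq_mul_self_iff.mp (hoth χ hχ) with e | e <;> rw [e] at h1 ⊢ <;> omega
    omega

end Setting

end CfsgLib.Block.ExtraThree
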