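import Cfsg.Agent.Lib.Block.ExtraThree.Basic
import Cfsg.Agent.Lib.Fusion.PComplement
import Mathlib.GroupTheory.PGroup
import Mathlib.GroupTheory.Perm.Cycle.Type

/-!
# Fusion in a Sylow subgroup extraspecial of order 27 with isolated centre
-/

set_option autoImplicit false
set_option linter.unusedSectionVars false

namespace CfsgLib.Block.ExtraThree

open Cfsg

universe u

variable {G : Type u} [Group G] [Finite G] {P : Sylow 3 G} {z : G}

namespace Frame

variable (F : Frame P z)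
include F

theorem z_cube : z ^ 3 = 1 := F.exp z F.mem

theorem orderOf_z : orderOf z = 3 :=
  have : Fact (Nat.Prime 3) := ⟨Nat.prime_three⟩
  orderOf_eq_prime F.z_cube F.ne

theorem Z_le : Subgroup.zpowers z ≤ (P : Subgroup G) := Subgroup.zpowers_le.mpr F.mem

theorem card_Z : Nat.card (Subgroup.zpowers z) = 3 := by rw [Nat.card_zpowers, F.orderOf_z]

theorem inv_z : z⁻¹ = z ^ 2 :=
  inv_eq_of_mul_eq_one_right (by rw [← pow_succ', F.z_cube])

theorem le_centralizer_z : (P : Subgroup G) ≤ Subgroup.centralizer ({z} : Set G) := fun u hu =>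
  Subgroup.mem_centralizer_singleton_iff.mpr (F.central u hu).eq

/-- A conjugate of a central element lying in `P` is that element. -/
theorem isolated' {u g : G} (hu : u ∈ Subgroup.zpowers z) (h : g * u * g⁻¹ ∈ (P : Subgroup G)) :
    g * u * g⁻¹ = u := by
  rcases (zpowers_three F.z_cube).mp hu with e | e | e <;> subst e
  · group
  · exact F.isolated g h
  · have h1 : g * z * g⁻¹ ∈ (P : Subgroup G) := by
      have h2 := pow_mem h 2
      rw [conj_pow, ← pow_mul, show (2 : ℕ) * 2 = 3 + 1 from rfl, pow_succ, F.z_cube, one_mul] at h2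
      exact h2
    rw [← conj_pow, F.isolated g h1]

theorem not_isConj {a u : G} (ha : a ∈ (P : Subgroup G)) (hna : a ∉ Subgroup.zpowers z)
    (hu : u ∈ Subgroup.zpowers z) : ¬ IsConj u a := fun h => by
  obtain ⟨c, hc⟩ := isConj_iff.mp h
  exact hna (hc ▸ (F.isolated' hu (hc ▸ ha)).symm ▸ hu)

theorem conj_not_mem {a c : G} (ha : a ∈ (P : Subgroup G)) (hna : a ∉ Subgroup.zpowers z) :
    c * a * c⁻¹ ∉ Subgroup.zpowers z := fun h =>
  F.not_isConj ha hna h (isConj_iff.mpr ⟨c, rfl⟩).symm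

/-- Every element of order a power of 3 is conjugate into `P`. -/
theorem exists_conj_mem {g : G} (hg : ∃ k : ℕ, orderOf g = 3 ^ k) :
    ∃ c : G, c * g * c⁻¹ ∈ (P : Subgroup G) := by
  have : Fact (Nat.Prime 3) := ⟨Nat.prime_three⟩
  obtain ⟨k, hk⟩ := hg
  obtain ⟨Q, hQ⟩ := (IsPGroup.of_card (p := 3) (G := Subgroup.zpowers g) (n := k)
    (by rw [Nat.card_zpowers, hk])).exists_le_sylow
  obtain ⟨c, hc⟩ := MulAction.exists_smul_eq G Q P
  refine ⟨c, ?_⟩
  rw [← hc, Sylow.coe_subgroup_smul]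
  exact ⟨g, hQ (Subgroup.mem_zpowers g), rfl⟩

theorem coset_conj {a u : G} (ha : a ∈ (P : Subgroup G)) (hna : a ∉ Subgroup.zpowers z)
    (hu : u ∈ Subgroup.zpowers z) : ∃ w ∈ (P : Subgroup G), w * a * w⁻¹ = a * u := by
  obtain ⟨w, hw, e⟩ := F.comm a ha hna
  rcases (zpowers_three F.z_cube).mp hu with e' | e' | e' <;> subst e'
  · exact ⟨1, one_mem _, by group⟩
  · exact ⟨w, hw, e⟩
  · refine ⟨w * w, mul_mem hw hw, ?_⟩
    calc w * w * a * (w * w)⁻¹ = w * (w * a * w⁻¹) * w⁻¹ := by group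
      _ = w * (a * z) * w⁻¹ := by rw [e]
      _ = w * a * w⁻¹ * (w * z * w⁻¹) := by group
      _ = a * z ^ 2 := by rw [e, (F.central w hw).eq, mul_inv_cancel_right, pow_two, mul_assoc]

/-- The centralizer in `P` of a non-central element has order 9. -/
theorem card_centP {a : G} (ha : a ∈ (P : Subgroup G)) (hna : a ∉ Subgroup.zpowers z) :
    Nat.card (centP P a) = 9 := by
  have hle : centP P a ≤ (P : Subgroup G) := inf_le_right
  have hdvd : Nat.card (centP P a) ∣ 3 ^ 3 := by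
    simpa [F.card] using Subgroup.card_dvd_of_le hle
  obtain ⟨i, hi, e⟩ := (Nat.dvd_prime_pow Nat.prime_three).mp hdvd
  have hne : centP P a ≠ (P : Subgroup G) := fun h => by
    obtain ⟨u, hu, hue⟩ := F.comm a ha hna
    have h1 : u * a = a * u := (mem_centP.mp (h.symm ▸ hu : u ∈ centP P a)).1.eq
    rw [h1, mul_inv_cancel_right] at hue
    exact F.ne (mul_eq_left.mp hue.symm)
  have hZle : Subgroup.zpowers z ≤ centP P a :=
    Subgroup.zpowers_le.mpr (mem_centP.mpr ⟨(F.central a ha).symm, F.mem⟩)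
  have haC : a ∈ centP P a := mem_centP.mpr ⟨Commute.refl a, ha⟩
  have h3 : ¬ Nat.card (centP P a) ≤ 3 := fun h => hna ((Subgroup.eq_of_le_of_card_ge hZle
    (by rw [F.card_Z]; exact h)).symm ▸ haC)
  have h27 : Nat.card (centP P a) ≠ 27 := fun h =>
    hne (Subgroup.eq_of_le_of_card_ge hle (by rw [F.card, h]))
  rw [e] at h3 h27 ⊢
  interval_cases i <;> revert h3 h27 <;> norm_num

theorem centP_comm {a : G} (ha : a ∈ (P : Subgroup G)) (hna : a ∉ Subgroup.zpowers z) {u v : G}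
    (hu : u ∈ centP P a) (hv : v ∈ centP P a) : Commute u v := by
  have : Fact (Nat.Prime 3) := ⟨Nat.prime_three⟩
  have h := IsPGroup.commutative_of_card_eq_prime_sq (p := 3) (G := centP P a)
    (by rw [F.card_centP ha hna]; norm_num)
  exact congrArg Subtype.val (h ⟨u, hu⟩ ⟨v, hv⟩)

/-- An element centralizing `a` and `z` centralizes `C_P(a)`. -/
theorem commute_centP {a : G} (ha : a ∈ (P : Subgroup G)) (hna : a ∉ Subgroup.zpowers z) {c u : G}
    (h1 : Commute c a) (h2 : Commute c z) (hu : u ∈ centP P a) : Commute c u := by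
  let H : Subgroup G := centP P a ⊓ Subgroup.centralizer ({c} : Set G)
  have hH : H = centP P a := by
    refine Subgroup.eq_of_le_of_card_ge inf_le_left ?_
    rw [F.card_centP ha hna]
    have hdvd : Nat.card H ∣ 3 ^ 2 := by
      rw [show (3 : ℕ) ^ 2 = Nat.card (centP P a) by rw [F.card_centP ha hna]; norm_num]
      exact Subgroup.card_dvd_of_le (inf_le_left : H ≤ centP P a)
    obtain ⟨i, hi, e⟩ := (Nat.dvd_prime_pow Nat.prime_three).mp hdvd
    have haH : a ∈ H := Subgroup.mem_inf.mpr ⟨mem_centP.mpr ⟨Commute.refl a, ha⟩,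
      Subgroup.mem_centralizer_singleton_iff.mpr h1.symm.eq⟩
    have hzH : Subgroup.zpowers z ≤ H := Subgroup.zpowers_le.mpr (Subgroup.mem_inf.mpr
      ⟨mem_centP.mpr ⟨(F.central a ha).symm, F.mem⟩,
        Subgroup.mem_centralizer_singleton_iff.mpr h2.symm.eq⟩)
    have h3 : ¬ Nat.card H ≤ 3 := fun h => hna ((Subgroup.eq_of_le_of_card_ge hzH
      (by rw [F.card_Z]; exact h)).symm ▸ haH)
    rw [e] at h3 ⊢
    interval_cases i <;> revert h3 <;> norm_num
  rw [← hH] at hu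
  exact (Subgroup.mem_centralizer_singleton_iff.mp (Subgroup.mem_inf.mp hu).2).symm

theorem centP_le (a : G) : centP P a ≤ Subgroup.centralizer ({a} : Set G) := inf_le_left

/-- `C_P(a)` is a Sylow subgroup of the centralizer of `a`. -/
theorem exists_sylow_centralizer {a : G} (ha : a ∈ (P : Subgroup G))
    (hna : a ∉ Subgroup.zpowers z) :
    ∃ S : Sylow 3 (Subgroup.centralizer ({a} : Set G)),
      (S : Subgroup _) = (centP P a).subgroupOf (Subgroup.centralizer ({a} : Set G)) := by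
  have : Fact (Nat.Prime 3) := ⟨Nat.prime_three⟩
  set C := Subgroup.centralizer ({a} : Set G) with hC
  set A := (centP P a).subgroupOf C with hA
  have hcardA : Nat.card A = 9 := by
    rw [hA, Nat.card_congr (Subgroup.subgroupOfEquivOfLe (F.centP_le a)).toEquiv, F.card_centP ha hna]
  have hAp : IsPGroup 3 A := IsPGroup.of_card (n := 2) (by rw [hcardA]; norm_num)
  obtain ⟨S, hS⟩ := hAp.exists_le_sylow
  refine ⟨S, (Subgroup.eq_of_le_of_card_ge hS ?_).symm⟩
  rw [hcardA]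
  have hp := S.2.map C.subtype
  obtain ⟨Q, hQ⟩ := hp.exists_le_sylow
  have hcS : Nat.card ((S : Subgroup C).map C.subtype) = Nat.card S :=
    Subgroup.card_map_of_injective C.subtype_injective
  obtain ⟨c, hc⟩ := MulAction.exists_smul_eq G Q P
  have hcardQ : Nat.card (Q : Subgroup G) = 27 := by
    rw [← F.card, P.card_eq_multiplicity, Q.card_eq_multiplicity]
  have hd : Nat.card S ∣ 3 ^ 3 := by
    rw [← hcS]; simpa [hcardQ] using Subgroup.card_dvd_of_le hQ
  obtain ⟨i, hi, e⟩ := (Nat.dvd_prime_pow Nat.prime_three).mp hd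
  rw [e]
  rcases Nat.lt_or_ge i 3 with h | h
  · interval_cases i <;> norm_num
  exfalso
  have heq : (S : Subgroup C).map C.subtype = (Q : Subgroup G) :=
    Subgroup.eq_of_le_of_card_ge hQ (by rw [hcS, e, hcardQ, show i = 3 by omega]; norm_num)
  -- the conjugate of `a` is central in `P`
  have haA : (⟨a, Subgroup.mem_centralizer_singleton_iff.mpr rfl⟩ : C) ∈ A :=
    Subgroup.mem_subgroupOf.mpr (mem_centP.mpr ⟨Commute.refl a, ha⟩)
  have haQ : a ∈ (Q : Subgroup G) := heq ▸ Subgroup.mem_map_of_mem C.subtype (hS haA)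
  have hcaP : c * a * c⁻¹ ∈ (P : Subgroup G) := by
    rw [← hc, Sylow.coe_subgroup_smul]; exact ⟨a, haQ, rfl⟩
  obtain ⟨u, hu, hue⟩ := F.comm _ hcaP (F.conj_not_mem ha hna)
  have huQ : c⁻¹ * u * c ∈ (Q : Subgroup G) := by
    have hu' := hu
    rw [← hc, Sylow.coe_subgroup_smul] at hu'
    obtain ⟨t, ht, hte⟩ := hu'
    change c * t * c⁻¹ = u at hte
    rw [← hte, show c⁻¹ * (c * t * c⁻¹) * c = t by group]
    exact ht
  rw [← heq] at huQ
  obtain ⟨t, -, hte⟩ := huQ
  have hta : c⁻¹ * u * c * a = a * (c⁻¹ * u * c) :=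
    hte ▸ Subgroup.mem_centralizer_singleton_iff.mp t.2
  have h1 : u * (c * a * c⁻¹) * u⁻¹ = c * a * c⁻¹ := by
    calc u * (c * a * c⁻¹) * u⁻¹ = c * (c⁻¹ * u * c * a * (c⁻¹ * u * c)⁻¹) * c⁻¹ := by group
      _ = c * a * c⁻¹ := by rw [hta, mul_inv_cancel_right]
  rw [h1] at hue
  exact F.ne (mul_eq_left.mp hue.symm)

/-- The centralizer of a non-central element has a normal 3-complement. -/
theorem complement {a : G} (ha : a ∈ (P : Subgroup G)) (hna : a ∉ Subgroup.zpowers z) :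
    Cfsg.HasNormalPComplement 3 (Subgroup.centralizer ({a} : Set G)) := by
  have : Fact (Nat.Prime 3) := ⟨Nat.prime_three⟩
  obtain ⟨S, hS⟩ := F.exists_sylow_centralizer ha hna
  refine CfsgLib.Fusion.hasNormalPComplement_of_normalizer_le_centralizer S ?_
  intro c hc
  rw [Subgroup.mem_centralizer_iff]
  intro v hv
  rw [SetLike.mem_coe, hS, Subgroup.mem_subgroupOf] at hv
  have hzA : (⟨z, Subgroup.mem_centralizer_singleton_iff.mpr (F.central a ha).symm.eq⟩ :
      Subgroup.centralizer ({a} : Set G)) ∈ (S : Subgroup _) := by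
    rw [hS, Subgroup.mem_subgroupOf]
    exact mem_centP.mpr ⟨(F.central a ha).symm, F.mem⟩
  have h1 := (Subgroup.mem_normalizer_iff.mp hc _).mp hzA
  rw [hS, Subgroup.mem_subgroupOf] at h1
  have h2 : (c : G) * z * (c : G)⁻¹ = z := F.isolated c (mem_centP.mp h1).2
  exact Subtype.ext (F.commute_centP ha hna (Subgroup.mem_centralizer_singleton_iff.mp c.2)
    (mul_inv_eq_iff_eq_mul.mp h2) hv).symm.eq

/-- Fusion of non-central elements is controlled by the centralizer of `z`. -/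
theorem fusion_centralizer {a b g : G} (ha : a ∈ (P : Subgroup G))
    (hna : a ∉ Subgroup.zpowers z) (hb : b ∈ (P : Subgroup G)) (hgab : g * a * g⁻¹ = b) :
    ∃ c : G, Commute c z ∧ c * a * c⁻¹ = b ∧
      ∀ u ∈ centP P a, c * u * c⁻¹ ∈ centP P b := by
  have : Fact (Nat.Prime 3) := ⟨Nat.prime_three⟩
  have hnb : b ∉ Subgroup.zpowers z := hgab ▸ F.conj_not_mem ha hna
  set CB := Subgroup.centralizer ({b} : Set G)
  have hle : (centP P a).map (MulAut.conj g).toMonoidHom ≤ CB := by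
    rintro _ ⟨u, hu, rfl⟩
    refine Subgroup.mem_centralizer_singleton_iff.mpr ?_
    rw [← hgab]
    exact ((mem_centP.mp hu).1.map (MulAut.conj g).toMonoidHom).eq
  set T := ((centP P a).map (MulAut.conj g).toMonoidHom).subgroupOf CB with hT
  have hcard : Nat.card T = 9 := by
    rw [hT, Nat.card_congr (Subgroup.subgroupOfEquivOfLe hle).toEquiv,
      Subgroup.card_map_of_injective (MulAut.conj g).injective, F.card_centP ha hna]
  obtain ⟨S', hS'⟩ := (IsPGroup.of_card (p := 3) (G := T) (n := 2)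
    (by rw [hcard]; norm_num)).exists_le_sylow
  obtain ⟨S, hS⟩ := F.exists_sylow_centralizer hb hnb
  obtain ⟨d, hd⟩ := MulAction.exists_smul_eq CB S' S
  have hmove : ∀ u ∈ centP P a, ((d : G) * g) * u * ((d : G) * g)⁻¹ ∈ centP P b := by
    intro u hu
    have hm : (⟨g * u * g⁻¹, hle ⟨u, hu, rfl⟩⟩ : CB) ∈ T := Subgroup.mem_subgroupOf.mpr ⟨u, hu, rfl⟩
    have h1 : d * ⟨g * u * g⁻¹, hle ⟨u, hu, rfl⟩⟩ * d⁻¹ ∈ (S : Subgroup CB) := by
      rw [← hd, Sylow.coe_subgroup_smul]; exact ⟨_, hS' hm, rfl⟩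
    rw [hS, Subgroup.mem_subgroupOf] at h1
    convert h1 using 1
    simp only [Subgroup.coe_mul, InvMemClass.coe_inv]
    group
  refine ⟨(d : G) * g, ?_, ?_, hmove⟩
  · exact mul_inv_eq_iff_eq_mul.mp
      (F.isolated _ (mem_centP.mp (hmove z (mem_centP.mpr ⟨(F.central a ha).symm, F.mem⟩))).2)
  · calc (d : G) * g * a * ((d : G) * g)⁻¹ = (d : G) * (g * a * g⁻¹) * (d : G)⁻¹ := by group
      _ = b := by rw [hgab, Subgroup.mem_centralizer_singleton_iff.mp d.2, mul_inv_cancel_right]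

/-- The elements centralizing `z` and the coset `b⟨z⟩`. -/
def cosetStab {P : Sylow 3 G} {z : G} (_F : Frame P z) (b : G) : Subgroup G where
  carrier := {l | Commute l z ∧ ∃ u ∈ Subgroup.zpowers z, l * b * l⁻¹ = b * u}
  one_mem' := ⟨Commute.one_left z, 1, one_mem _, by group⟩
  mul_mem' := by
    rintro l l' ⟨hl, u, hu, e⟩ ⟨hl', u', hu', e'⟩
    refine ⟨hl.mul_left hl', u * u', mul_mem hu hu', ?_⟩
    obtain ⟨i, rfl⟩ := Subgroup.mem_zpowers_iff.mp hu'
    calc l * l' * b * (l * l')⁻¹ = l * (l' * b * l'⁻¹) * l⁻¹ := by group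
      _ = l * b * l⁻¹ * (l * z ^ i * l⁻¹) := by rw [e']; group
      _ = b * (u * z ^ i) := by rw [e, (hl.zpow_right i).eq, mul_inv_cancel_right, mul_assoc]
  inv_mem' := by
    rintro l ⟨hl, u, hu, e⟩
    refine ⟨hl.inv_left, u⁻¹, inv_mem hu, ?_⟩
    obtain ⟨i, rfl⟩ := Subgroup.mem_zpowers_iff.mp hu
    have h2 : l * b = b * z ^ i * l := mul_inv_eq_iff_eq_mul.mp e
    have h3 : b = l⁻¹ * b * l * z ^ i := by
      calc b = l⁻¹ * (l * b) := by group
        _ = l⁻¹ * b * (z ^ i * l) := by rw [h2]; group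
        _ = l⁻¹ * b * l * z ^ i := by rw [← (hl.zpow_right i).eq]; group
    rw [inv_inv, eq_mul_inv_iff_mul_eq]
    exact h3.symm

/-- Fusion of non-central elements is controlled by the normalizer of `P`. -/
theorem fusion {a b g : G} (ha : a ∈ (P : Subgroup G)) (hna : a ∉ Subgroup.zpowers z)
    (hb : b ∈ (P : Subgroup G)) (hgab : g * a * g⁻¹ = b) :
    ∃ n ∈ Subgroup.normalizer ((P : Subgroup G) : Set G), n * a * n⁻¹ = b := by
  have : Fact (Nat.Prime 3) := ⟨Nat.prime_three⟩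
  obtain ⟨c, hcz, hcab, -⟩ := F.fusion_centralizer ha hna hb hgab
  have hnb : b ∉ Subgroup.zpowers z := hgab ▸ F.conj_not_mem ha hna
  have hcZ : ∀ u ∈ Subgroup.zpowers z, c * u * c⁻¹ = u := fun u hu => by
    obtain ⟨i, rfl⟩ := Subgroup.mem_zpowers_iff.mp hu
    rw [(hcz.zpow_right i).eq, mul_inv_cancel_right]
  set L := F.cosetStab b
  have hPL : (P : Subgroup G) ≤ L := fun t ht => ⟨F.central t ht, by
    rcases F.cosets b hb t ht with h | h | h
    · exact ⟨1, one_mem _, by rw [h, mul_one]⟩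
    · exact ⟨z, Subgroup.mem_zpowers z, h⟩
    · exact ⟨z ^ 2, Subgroup.npow_mem_zpowers z 2, h⟩⟩
  have hcPL : ((c • P : Sylow 3 G) : Subgroup G) ≤ L := by
    rw [Sylow.coe_subgroup_smul]
    rintro _ ⟨t, ht, rfl⟩
    show c * t * c⁻¹ ∈ L
    refine ⟨?_, ?_⟩
    · have h : Commute (c * t * c⁻¹) (c * z * c⁻¹) :=
        (F.central t ht).map (MulAut.conj c).toMonoidHom
      rwa [hcz.eq, mul_inv_cancel_right] at h
    · have key : ∀ u ∈ Subgroup.zpowers z, t * a * t⁻¹ = a * u →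
          c * t * c⁻¹ * b * (c * t * c⁻¹)⁻¹ = b * u := by
        intro u hu e
        calc c * t * c⁻¹ * b * (c * t * c⁻¹)⁻¹ = c * (t * a * t⁻¹) * c⁻¹ := by rw [← hcab]; group
          _ = c * a * c⁻¹ * (c * u * c⁻¹) := by rw [e]; group
          _ = b * u := by rw [hcab, hcZ u hu]
      rcases F.cosets a ha t ht with h | h | h
      · exact ⟨1, one_mem _, key 1 (one_mem _) (by rw [h, mul_one])⟩
      · exact ⟨z, Subgroup.mem_zpowers z, key z (Subgroup.mem_zpowers z) h⟩
      · exact ⟨z ^ 2, Subgroup.npow_mem_zpowers z 2, key _ (Subgroup.npow_mem_zpowers z 2) h⟩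
  obtain ⟨l, hl⟩ := MulAction.exists_smul_eq L ((c • P).subtype hcPL) (P.subtype hPL)
  have hn : (l : G) * c ∈ Subgroup.normalizer ((P : Subgroup G) : Set G) := by
    refine Subgroup.mem_normalizer_fintype fun t ht => ?_
    have hmem : c * t * c⁻¹ ∈ ((c • P : Sylow 3 G) : Subgroup G) := by
      rw [Sylow.coe_subgroup_smul]; exact ⟨t, ht, rfl⟩
    have h1 : l * ⟨c * t * c⁻¹, hcPL hmem⟩ * l⁻¹ ∈ (P.subtype hPL : Subgroup L) := by
      rw [← hl, Sylow.coe_subgroup_smul]
      exact ⟨⟨c * t * c⁻¹, hcPL hmem⟩, Subgroup.mem_subgroupOf.mpr hmem, rfl⟩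
    rw [Sylow.coe_subtype, Subgroup.mem_subgroupOf] at h1
    convert h1 using 1
    simp only [SetLike.mem_coe, Subgroup.coe_mul, InvMemClass.coe_inv]
    group
  obtain ⟨-, u, hu, hle⟩ := l.2
  have h2 : (l : G) * c * a * ((l : G) * c)⁻¹ = b * u := by
    calc _ = (l : G) * (c * a * c⁻¹) * (l : G)⁻¹ := by group
      _ = b * u := by rw [hcab, hle]
  have hbu : b * u ∉ Subgroup.zpowers z := fun h => hnb ((Subgroup.mul_mem_cancel_right _ hu).mp h)
  obtain ⟨w, hw, hwe⟩ := F.coset_conj (mul_mem hb (F.Z_le hu)) hbu (inv_mem hu)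
  refine ⟨w * ((l : G) * c), mul_mem (Subgroup.le_normalizer hw) hn, ?_⟩
  calc _ = w * ((l : G) * c * a * ((l : G) * c)⁻¹) * w⁻¹ := by group
    _ = b := by rw [h2, hwe, mul_inv_cancel_right]

/-- If the normalizer acts trivially on `P` modulo the centre there is a normal 3-complement. -/
theorem complement_of_trivial
    (h : ∀ a ∈ (P : Subgroup G), ∀ n ∈ Subgroup.normalizer ((P : Subgroup G) : Set G),
      a⁻¹ * (n * a * n⁻¹) ∈ Subgroup.zpowers z) :
    Cfsg.HasNormalPComplement 3 G := by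
  have : Fact (Nat.Prime 3) := ⟨Nat.prime_three⟩
  refine CfsgLib.Fusion.hasNormalPComplement_of_noExtraFusion P ?_
  intro a ha b hb hab
  obtain ⟨g, hg⟩ := hab
  by_cases haZ : a ∈ Subgroup.zpowers z
  · exact ⟨1, one_mem _, by rw [one_mul, inv_one, mul_one, ← hg, F.isolated' haZ (hg.symm ▸ hb)]⟩
  obtain ⟨n, hn, hne⟩ := F.fusion ha haZ hb hg
  obtain ⟨w, hw, hwe⟩ := F.coset_conj ha haZ (h a ha n hn)
  exact ⟨w, hw, by rw [hwe, hne, mul_inv_cancel_left]⟩

end Frame

end CfsgLib.Block.ExtraThree
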