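import Cfsg.Agent.Lib.Block.StarFun
import Cfsg.Agent.Lib.Block.SubsectionCount
import Cfsg.Agent.Lib.Char.Brauer
import Cfsg.Agent.Lib.Char.Virtual
import Cfsg.Agent.Lib.Char.SectionIndicator

/-!
# Functions of the `p`-part, twisted averages and expansions inside a block
-/

set_option autoImplicit false
set_option linter.unusedSectionVars false

open Finset
open scoped ComplexConjugate

namespace CfsgLib.Block.ExtraThree

open Cfsg CfsgLib.Block

universe u

variable {p : ℕ} {M : Ideal AlgInt} [M.IsMaximal] {G : Type u} [Group G] [Fintype G] [DecidableEq G]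

/-- The twisted average of a character over a coset of a centralized subgroup is integral. -/
theorem isIntegral_avg_coset_twist {χ : G → ℂ} (hχ : IsCharacter G χ) (s : G) (Q : Subgroup G)
    [Fintype Q] (μ : Q →* ℂˣ) (hQ : ∀ q ∈ Q, Commute s q) :
    IsIntegral ℤ ((Nat.card Q : ℂ)⁻¹ * ∑ q : Q, (μ q : ℂ) * χ (s * q)) := by
  obtain ⟨n, ρ, rfl⟩ := hχ
  let R : Module.End ℂ (Fin n → ℂ) := (Nat.card Q : ℂ)⁻¹ • ∑ q : Q, (μ q : ℂ) • ρ q
  let T : Module.End ℂ (Fin n → ℂ) := ρ s * R
  have hfix : ∀ q : Q, ((μ q : ℂ) • ρ q) * R = R := fun q => by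
    simp only [R, mul_smul_comm, Finset.mul_sum, smul_mul_assoc, Finset.smul_sum, smul_smul, ← map_mul]
    refine Fintype.sum_equiv (Equiv.mulLeft q) _ _ fun x => ?_
    simp only [Equiv.coe_mulLeft, map_mul, Units.val_mul, Subgroup.coe_mul]
    congr 1
    ring
  have hRR : R * R = R := by
    conv_lhs => arg 1; rw [show R = (Nat.card Q : ℂ)⁻¹ • ∑ q : Q, (μ q : ℂ) • ρ q from rfl]
    rw [smul_mul_assoc, Finset.sum_mul, Finset.sum_congr rfl fun q _ => hfix q, Finset.sum_const,
      Finset.card_univ, ← Nat.card_eq_fintype_card, ← Nat.cast_smul_eq_nsmul ℂ, smul_smul,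
      inv_mul_cancel₀ (Nat.cast_ne_zero.mpr Nat.card_pos.ne'), one_smul]
  have hcomm : Commute (ρ s) R := by
    refine Commute.smul_right (Commute.sum_right _ _ _ fun q _ => ?_) _
    exact ((hQ q q.2).map ρ).smul_right _
  have hTm : T ^ (orderOf s + 1) = T := by
    simp only [T, hcomm.mul_pow]
    rw [pow_succ (ρ s), ← map_pow, pow_orderOf_eq_one, map_one, one_mul]
    congr 1
    clear hcomm T
    induction orderOf s with
    | zero => rw [pow_one]
    | succ k ih => rw [pow_succ, ih, hRR]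
  have htr : LinearMap.trace ℂ _ T =
      (Nat.card Q : ℂ)⁻¹ * ∑ q : Q, (μ q : ℂ) * ρ.character (s * q) := by
    simp only [T, R, mul_smul_comm, Finset.mul_sum, map_smul, map_sum, ← map_mul, smul_eq_mul]
    rfl
  rw [← htr, Module.End.trace_eq_sum_roots_charpoly_of_splits (IsAlgClosed.splits _)]
  refine Multiset.sum_induction _ _ (fun a b => IsIntegral.add) isIntegral_zero fun x hx => ?_
  have hroot : Module.End.HasEigenvalue T x :=
    (Module.End.hasEigenvalue_iff_isRoot_charpoly T x).mpr (Polynomial.isRoot_of_mem_roots hx)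
  obtain ⟨v, hv⟩ := hroot.exists_hasEigenvector
  have h1 := hv.pow_apply (orderOf s + 1)
  rw [hTm, hv.apply_eq_smul] at h1
  have h2 : x ^ (orderOf s + 1) = x := (smul_left_injective ℂ hv.2 h1).symm
  by_cases h0 : x = 0
  · rw [h0]; exact isIntegral_zero
  · rw [pow_succ, mul_eq_right₀ h0] at h2
    exact isIntegral_of_pow_eq_one (orderOf_pos s) h2

theorem isIntegral_avg_gen {χ : G → ℂ} (hχ : IsGeneralizedCharacter G χ) (s : G) (Q : Subgroup G)
    [Fintype Q] (μ : Q →* ℂˣ) (hQ : ∀ q ∈ Q, Commute s q) :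
    IsIntegral ℤ ((Nat.card Q : ℂ)⁻¹ * ∑ q : Q, (μ q : ℂ) * χ (s * q)) := by
  obtain ⟨a, b, ha, hb, rfl⟩ := hχ
  have h := (isIntegral_avg_coset_twist ha s Q μ hQ).sub (isIntegral_avg_coset_twist hb s Q μ hQ)
  rw [← mul_sub, ← Finset.sum_sub_distrib] at h
  simpa only [Pi.sub_apply, mul_sub] using h

theorem pPt_conj (hM : IsPModular p M) (g c : G) : pPt hM (c * g * c⁻¹) = c * pPt hM g * c⁻¹ :=
  isPPart_unique hM.1 (isPPart_pPt hM _) (CfsgLib.Block.isPPart_conj (isPPart_pPt hM g) c)

theorem pPt_eq (hM : IsPModular p M) {g x : G} (h : IsPPart p g x) : pPt hM g = x :=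
  isPPart_unique hM.1 (isPPart_pPt hM g) h

theorem isClassFunction_comp_pPt (hM : IsPModular p M) {f : G → ℂ} (hf : IsClassFunction G f) :
    IsClassFunction G (fun g => f (pPt hM g)) := fun g c => by
  show f (pPt hM (c * g * c⁻¹)) = f (pPt hM g)
  rw [pPt_conj, hf]

/-- A function of the `p`-part is a generalized character if its restriction to a Sylow subgroup is. -/
theorem isGeneralizedCharacter_comp_pPt (hM : IsPModular p M) {f : G → ℂ}
    (hf : IsClassFunction G f) (S : Sylow p G)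
    (hS : IsGeneralizedCharacter (S : Subgroup G) (fun s => f s)) :
    IsGeneralizedCharacter G (fun g => f (pPt hM g)) := by
  classical
  have hpf := Fact.mk hM.1
  refine Char.isGeneralizedCharacter_of_elementary (isClassFunction_comp_pPt hM hf) fun H q hq hH => ?_
  have := Char.isNilpotent_of_isElementary hq hH
  obtain ⟨k, r, hr, hcard⟩ :=
    Nat.exists_eq_pow_mul_and_not_dvd (Nat.card_pos (α := H)).ne' p hM.1.ne_one
  have hcop : (p ^ k).Coprime r := Nat.Coprime.pow_left k (hM.1.coprime_iff_not_dvd.2 hr)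
  obtain ⟨A, B, hA, hB, hAB, hcomm, hdis⟩ := Char.SectionIndicator.exists_split hcop (dvd_of_eq hcard)
  have hbij : Function.Bijective (fun q : A × B => (q.1 : H) * q.2) := by
    have := Fintype.ofFinite A
    have := Fintype.ofFinite B
    refine (Fintype.bijective_iff_injective_and_card _).2 ⟨fun q q' h => ?_, ?_⟩
    · have h' : (q'.1 : H)⁻¹ * q.1 = q'.2 * (q.2 : H)⁻¹ := by
        rw [eq_mul_inv_iff_mul_eq, mul_assoc, inv_mul_eq_iff_eq_mul]; exact h
      have h0 : (q'.1 : H)⁻¹ * q.1 ∈ A ⊓ B :=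
        Subgroup.mem_inf.2 ⟨mul_mem (inv_mem q'.1.2) q.1.2, h' ▸ mul_mem q'.2.2 (inv_mem q.2.2)⟩
      rw [hdis, Subgroup.mem_bot] at h0
      rw [h0, eq_comm, mul_inv_eq_one] at h'
      exact Prod.ext (Subtype.ext (inv_mul_eq_one.1 h0).symm) (Subtype.ext h'.symm)
    · rw [Fintype.card_prod]
      simpa [Nat.card_eq_fintype_card] using hAB
  let e := Equiv.ofBijective _ hbij
  have hmul : ∀ x y : H, (e.symm (x * y)).1 = (e.symm x).1 * (e.symm y).1 := by
    intro x y
    obtain ⟨⟨a, b⟩, rfl⟩ := e.surjective x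
    obtain ⟨⟨a', b'⟩, rfl⟩ := e.surjective y
    have h1 : e (a, b) * e (a', b') = e (a * a', b * b') := by
      show (a : H) * b * ((a' : H) * b') = (a : H) * a' * ((b : H) * b')
      exact Commute.mul_mul_mul_comm (hcomm a' a'.2 b b.2).symm _ _
    rw [h1, e.symm_apply_apply, e.symm_apply_apply, e.symm_apply_apply]
  let θ : H →* G := MonoidHom.mk' (fun x => (((e.symm x).1 : H) : G)) fun x y => by
    simp only [hmul, Subgroup.coe_mul]
  have hθ : ∀ x : H, pPt hM (x : G) = θ x := by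
    intro x
    obtain ⟨⟨a, b⟩, rfl⟩ := e.surjective x
    show pPt hM _ = (((e.symm (e (a, b))).1 : H) : G)
    rw [e.symm_apply_apply]
    refine isPPart_unique hM.1 (isPPart_pPt hM _) ⟨((b : H) : G), rfl,
      congrArg Subtype.val (hcomm a a.2 b b.2).eq, ?_, ?_⟩
    · obtain ⟨j, -, hj⟩ := (Nat.dvd_prime_pow hM.1).1 ((orderOf_dvd_natCard a).trans hA)
      exact ⟨j, by rw [← hj, Subgroup.orderOf_coe, Subgroup.orderOf_coe]⟩
    · intro hd
      rw [Subgroup.orderOf_coe, Subgroup.orderOf_coe] at hd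
      exact hr (hd.trans ((orderOf_dvd_natCard b).trans hB))
  have hp2 : IsPGroup p θ.range := by
    rintro ⟨_, x, rfl⟩
    obtain ⟨j, hj⟩ := pPow_pPt hM (x : G)
    refine ⟨j, Subtype.ext ?_⟩
    show (θ x) ^ p ^ j = 1
    rw [← hθ x, ← hj]
    exact pow_orderOf_eq_one _
  obtain ⟨R, hR⟩ := hp2.exists_le_sylow
  obtain ⟨c, hc⟩ := MulAction.exists_smul_eq G R S
  let ψ : H →* (S : Subgroup G) :=
    ((MulAut.conj c).toMonoidHom.comp θ).codRestrict (S : Subgroup G) fun x => by
      rw [← hc, Sylow.coe_subgroup_smul]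
      exact ⟨θ x, hR ⟨x, rfl⟩, rfl⟩
  have := Char.isGeneralizedCharacter_comp hS ψ
  convert this using 2 with x
  show f (pPt hM (x : G)) = f (c * θ x * c⁻¹)
  rw [hθ, hf]

/-- The section of a `p`-element, as a sum over the centralizer. -/
theorem sum_section (hM : IsPModular p M) {F : G → ℂ} (hF : IsClassFunction G F) {u : G}
    (hu : ∃ k : ℕ, orderOf u = p ^ k) {C : Subgroup G} [Fintype C] [DecidablePred (IsConj u)]
    (hC : ∀ t : G, t ∈ C ↔ Commute t u) :
    ∑ g ∈ univ.filter (fun g => IsConj u (pPt hM g)), F g =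
      (C.index : ℂ) * ∑ y ∈ univ.filter (fun y : C => ¬ p ∣ orderOf y), F (u * (y : G)) := by
  classical
  rw [Finset.sum_filter, sum_by_pPart hM]
  have hterm : ∀ v : G, (∃ k : ℕ, orderOf v = p ^ k) →
      ∑ s ∈ regC p v, (if IsConj u (pPt hM (v * s)) then F (v * s) else 0) =
        if IsConj u v then ∑ s ∈ regC p v, F (v * s) else 0 := by
    intro v hv
    split_ifs with h
    · exact sum_congr rfl fun s hs => by rw [pPt_mul hM hv hs, if_pos h]
    · exact sum_eq_zero fun s hs => by rw [pPt_mul hM hv hs, if_neg h]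
  rw [sum_congr rfl fun v hv => hterm v (mem_filter.mp hv).2, ← Finset.sum_filter]
  have hfib : ∀ v : G, IsConj u v → ∑ s ∈ regC p v, F (v * s) =
      ∑ y ∈ univ.filter (fun y : C => ¬ p ∣ orderOf y), F (u * (y : G)) := by
    intro v hv
    obtain ⟨c, hc⟩ := isConj_iff.mp hv
    symm
    refine Finset.sum_bij (fun y _ => c * (y : G) * c⁻¹) (fun y hy => ?_) (fun a _ b _ h => ?_)
      (fun s hs => ?_) (fun y _ => ?_)
    · refine mem_regC.mpr ⟨mem_cq_zpowers_iff.mpr ?_, ?_⟩
      · rw [← hc]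
        exact ((hC y).mp y.2).map (MulAut.conj c).toMonoidHom
      · rw [show orderOf (c * (y : G) * c⁻¹) = orderOf (y : G) from
          MulEquiv.orderOf_eq (MulAut.conj c) _, Subgroup.orderOf_coe]
        exact (mem_filter.mp hy).2
    · exact Subtype.ext (mul_left_cancel (mul_right_cancel h))
    · obtain ⟨h1, h2⟩ := mem_regC.mp hs
      have h1' := (mem_cq_zpowers_iff.mp h1).map (MulAut.conj c⁻¹).toMonoidHom
      simp only [MulEquiv.toMonoidHom_eq_coe, MonoidHom.coe_coe, MulAut.conj_apply, inv_inv] at h1'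
      rw [show c⁻¹ * v * c = u by rw [← hc]; group] at h1'
      refine ⟨⟨c⁻¹ * s * c, (hC _).mpr h1'⟩, mem_filter.mpr ⟨mem_univ _, ?_⟩, by group⟩
      rw [← Subgroup.orderOf_coe]
      have he := MulEquiv.orderOf_eq (MulAut.conj c⁻¹) s
      simp only [MulAut.conj_apply, inv_inv] at he
      rwa [he]
    · rw [show v * (c * (y : G) * c⁻¹) = c * (u * (y : G)) * c⁻¹ by rw [← hc]; group, hF]
  rw [sum_congr rfl fun v hv => hfib v (mem_filter.mp hv).2, Finset.sum_const, nsmul_eq_mul]
  congr 1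
  have hCeq : C = Subgroup.centralizer ({u} : Set G) := by
    ext t; rw [hC, Subgroup.mem_centralizer_singleton_iff]; rfl
  rw [hCeq, ← Char.card_isConj, Nat.card_eq_fintype_card, Fintype.card_subtype, Finset.filter_filter]
  congr 2
  ext v
  simp only [Finset.mem_filter, Finset.mem_univ, true_and, and_iff_right_iff_imp]
  intro hv
  obtain ⟨c, rfl⟩ := isConj_iff.mp hv
  obtain ⟨k, hk⟩ := hu
  exact ⟨k, by rw [show orderOf (c * u * c⁻¹) = orderOf u from MulEquiv.orderOf_eq (MulAut.conj c) u, hk]⟩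

/-- Inner sums over a section, normalized. -/
theorem avg_section (hM : IsPModular p M) {F : G → ℂ} (hF : IsClassFunction G F) {u : G}
    (hu : ∃ k : ℕ, orderOf u = p ^ k) {C : Subgroup G} [Fintype C] [DecidablePred (IsConj u)]
    (hC : ∀ t : G, t ∈ C ↔ Commute t u) :
    (Nat.card G : ℂ)⁻¹ * ∑ g ∈ univ.filter (fun g => IsConj u (pPt hM g)), F g =
      (Nat.card C : ℂ)⁻¹ * ∑ y ∈ univ.filter (fun y : C => ¬ p ∣ orderOf y), F (u * (y : G)) := by
  have h : (Nat.card G : ℂ) = (C.index : ℂ) * Nat.card C := by exact_mod_cast C.index_mul_card.symm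
  have hi : (C.index : ℂ) ≠ 0 := Nat.cast_ne_zero.mpr Subgroup.index_ne_zero_of_finite
  rw [sum_section hM hF hu hC, h, mul_inv, mul_comm (C.index : ℂ)⁻¹, mul_assoc,
    inv_mul_cancel_left₀ hi]

variable [Fintype (IrrCharacter G)]

open scoped Classical in
/-- The characters of a block times a function of the section expand inside the block. -/
theorem mul_eq_sum (hM : IsPModular p M) {B : Set (IrrCharacter G)} (hB : IsPBlock M B)
    {f : G → ℂ} (hf : IsClassFunction G f) {ψ : IrrCharacter G} (hψ : ψ ∈ B) (g : G) :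
    f (pPt hM g) * (ψ : G → ℂ) g = ∑ θ ∈ univ.filter (· ∈ B),
      classInner (fun x => f (pPt hM x) * (ψ : G → ℂ) x) (θ : G → ℂ) * (θ : G → ℂ) g := by
  set s := univ.filter (fun θ : IrrCharacter G => θ ∈ B) with hs
  have hψsum : (ψ : G → ℂ) g = ∑ θ ∈ s, classInner (ψ : G → ℂ) (θ : G → ℂ) * (θ : G → ℂ) g := by
    rw [Finset.sum_eq_single ψ]
    · rw [Char.classInner_irr_self, one_mul]
    · intro θ _ hne
      rw [Char.classInner_irr_ne hne.symm, zero_mul]
    · exact fun h => absurd (mem_filter.mpr ⟨mem_univ _, hψ⟩) h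
  rw [hψsum, Finset.mul_sum]
  simp only [classInner, Finset.mul_sum, Finset.sum_mul]
  rw [Finset.sum_comm]
  conv_rhs => rw [Finset.sum_comm]
  refine sum_congr rfl fun x _ => ?_
  by_cases hx : IsConj (pPt hM g) (pPt hM x)
  · rw [Char.classFun_isConj hf hx]
    exact sum_congr rfl fun θ _ => by ring
  · have h0 := blockUnion_orthogonal_conj hM (.of_isPBlock hB) (isPPart_pPt hM g) (isPPart_pPt hM x) hx
    rw [finsum_mem_eq_toFinset_sum] at h0
    have h1 : ∑ θ ∈ s, conj ((θ : G → ℂ) x) * (θ : G → ℂ) g = 0 := by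
      rw [← h0]
      exact Finset.sum_congr (by ext; simp [hs]) fun θ _ => mul_comm _ _
    rw [sum_congr rfl (g := fun θ : IrrCharacter G =>
        f (pPt hM g) * (Nat.card G : ℂ)⁻¹ * (ψ : G → ℂ) x * (conj ((θ : G → ℂ) x) * (θ : G → ℂ) g))
      fun θ _ => by ring, ← Finset.mul_sum, h1, mul_zero,
      sum_congr rfl (g := fun θ : IrrCharacter G =>
        (Nat.card G : ℂ)⁻¹ * f (pPt hM x) * (ψ : G → ℂ) x * (conj ((θ : G → ℂ) x) * (θ : G → ℂ) g))
      fun θ _ => by ring, ← Finset.mul_sum, h1, mul_zero]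

open scoped Classical in
/-- Parseval's identity inside a block. -/
theorem parseval (hM : IsPModular p M) {B : Set (IrrCharacter G)} (hB : IsPBlock M B)
    {f : G → ℂ} (hf : IsClassFunction G f) {ψ : IrrCharacter G} (hψ : ψ ∈ B) (φ : G → ℂ) :
    classInner (fun x => f (pPt hM x) * (ψ : G → ℂ) x) φ = ∑ θ ∈ univ.filter (· ∈ B),
      classInner (fun x => f (pPt hM x) * (ψ : G → ℂ) x) (θ : G → ℂ) *
        classInner (θ : G → ℂ) φ := by
  have h : (fun x => f (pPt hM x) * (ψ : G → ℂ) x) = ∑ θ ∈ univ.filter (· ∈ B),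
      classInner (fun x => f (pPt hM x) * (ψ : G → ℂ) x) (θ : G → ℂ) • (θ : G → ℂ) := funext fun g => by
    rw [mul_eq_sum hM hB hf hψ g, Finset.sum_apply]
    exact sum_congr rfl fun θ _ => rfl
  conv_lhs => rw [h, Char.classInner_sum_left]
  exact sum_congr rfl fun θ _ => Char.classInner_smul_left _ _ _

/-- A number in the maximal ideal of the local ring. -/
def Small (M : Ideal AlgInt) [M.IsMaximal] (c : ℂ) : Prop :=
  ∃ x : locRing M, (x : ℂ) = c ∧ res M x = 0

theorem Small.zero : Small M 0 := ⟨0, rfl, map_zero _⟩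

theorem Small.add {a b : ℂ} (ha : Small M a) (hb : Small M b) : Small M (a + b) := by
  obtain ⟨x, rfl, hx⟩ := ha
  obtain ⟨y, rfl, hy⟩ := hb
  exact ⟨x + y, rfl, by rw [map_add, hx, hy, add_zero]⟩

theorem Small.neg {a : ℂ} (ha : Small M a) : Small M (-a) := by
  obtain ⟨x, rfl, hx⟩ := ha
  exact ⟨-x, rfl, by rw [map_neg, hx, neg_zero]⟩

theorem Small.sub {a b : ℂ} (ha : Small M a) (hb : Small M b) : Small M (a - b) := by
  rw [sub_eq_add_neg]; exact ha.add hb.neg

theorem Small.mul_mem {a c : ℂ} (ha : Small M a) (hc : c ∈ locRing M) : Small M (c * a) := by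
  obtain ⟨x, rfl, hx⟩ := ha
  exact ⟨⟨c, hc⟩ * x, rfl, by rw [map_mul, hx, mul_zero]⟩

theorem Small.mul_int {a c : ℂ} (ha : Small M a) (hc : IsIntegral ℤ c) : Small M (c * a) :=
  ha.mul_mem (integral_mem M hc)

theorem Small.sum {ι : Type*} {s : Finset ι} {f : ι → ℂ} (h : ∀ i ∈ s, Small M (f i)) :
    Small M (∑ i ∈ s, f i) :=
  Finset.sum_induction _ (Small M) (fun _ _ => Small.add) Small.zero h

theorem small_natCast (hM : IsPModular p M) : Small M (p : ℂ) := by
  have := charP_resField hM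
  exact ⟨(p : locRing M), by norm_cast, by rw [res_natCast, CharP.cast_eq_zero]⟩

theorem dvd_of_small (hM : IsPModular p M) {n : ℤ} (h : Small M (n : ℂ)) : (p : ℤ) ∣ n := by
  have := charP_resField hM
  obtain ⟨x, hx, hx0⟩ := h
  have e : x = (n : locRing M) := Subtype.ext (by rw [hx]; norm_cast)
  rw [e, map_intCast] at hx0
  exact (CharP.intCast_eq_zero_iff (ResField M) p n).mp hx0

omit [DecidableEq G] [Fintype (IrrCharacter G)] in
/-- An orbit sum: if each invariant value over its stabilizer order is small, so is the total over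
the group order. -/
theorem small_sum_orbits {H : Type*} [Group H] [Fintype H] {Y : Type*} [Fintype Y]
    [MulAction H Y] (a : Y → ℂ) (hinv : ∀ (h : H) (y : Y), a (h • y) = a y)
    (hs : ∀ y : Y, Small M ((Nat.card (MulAction.stabilizer H y) : ℂ)⁻¹ * a y)) :
    Small M ((Nat.card H : ℂ)⁻¹ * ∑ y, a y) := by
  classical
  rw [← Finset.sum_fiberwise_of_maps_to
    (t := (univ : Finset Y).image fun y => Quotient.mk (MulAction.orbitRel H Y) y)
    (g := fun y => Quotient.mk (MulAction.orbitRel H Y) y) (fun y hy => mem_image_of_mem _ hy),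
    Finset.mul_sum]
  refine Small.sum fun q hq => ?_
  obtain ⟨y, -, rfl⟩ := mem_image.mp hq
  have hfil : univ.filter (fun x => Quotient.mk (MulAction.orbitRel H Y) x =
      Quotient.mk (MulAction.orbitRel H Y) y) = univ.filter (fun x => x ∈ MulAction.orbit H y) :=
    Finset.filter_congr fun x _ => Quotient.eq''.trans MulAction.orbitRel_apply
  rw [hfil, sum_congr rfl (g := fun _ => a y) fun x hx => by
    obtain ⟨h, rfl⟩ := (mem_filter.mp hx).2
    exact hinv h y, Finset.sum_const, nsmul_eq_mul]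
  convert hs y using 1
  have hcard : Nat.card (MulAction.orbit H y) * Nat.card (MulAction.stabilizer H y) = Nat.card H := by
    simpa [Nat.card_eq_fintype_card] using MulAction.card_orbit_mul_card_stabilizer_eq_card_group H y
  rw [← hcard, ← Fintype.card_subtype, ← Nat.card_eq_fintype_card]
  push_cast
  have : (Nat.card (MulAction.orbit H y) : ℂ) ≠ 0 := by
    exact_mod_cast (left_ne_zero_of_mul (hcard.trans_ne Nat.card_pos.ne'))
  rw [show Nat.card { x // x ∈ MulAction.orbit H y } = Nat.card (MulAction.orbit H y) from rfl]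
  field_simp

end CfsgLib.Block.ExtraThree
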