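import Cfsg.Agent.Lib.Block.ExtraThree.Count
import Cfsg.Agent.Lib.Block.ExtraThree.Central
import Cfsg.Agent.Lib.Block.PrincipalResidual

/-!
# The invariants of the principal 3-block with extraspecial Sylow subgroup of order 27
-/

set_option autoImplicit false
set_option linter.unusedSectionVars false

open Finset
open scoped ComplexConjugate Classical

namespace CfsgLib.Block.ExtraThree

open Cfsg CfsgLib CfsgLib.Block

universe u

variable {G : Type u} [Group G] [Fintype G] [DecidableEq G] [Fintype (IrrCharacter G)]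
  {M : Ideal AlgInt} [M.IsMaximal] {P : Sylow 3 G} {z : G} {m : ℕ}

namespace Setting

variable (S : Setting M P z m)

/-- The rows all of whose entries are units. -/
noncomputable def units : Finset (IrrCharacter G) :=
  S.zeroRows.filter fun χ => ∀ j, S.col χ j * S.col χ j = 1

/-- The moved characters of positive height. -/
noncomputable def movedPos : Finset (IrrCharacter G) := S.moved.filter fun p => (3 : ℤ) ∣ deg p

/-- The moved characters of height zero. -/
noncomputable def movedZero : Finset (IrrCharacter G) :=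
  S.moved.filter fun p => ¬ (3 : ℤ) ∣ deg p

theorem card_movedPos_add : S.movedPos.card + S.movedZero.card = 2 * S.centralRank := by
  rw [movedPos, movedZero, Finset.card_filter_add_card_filter_not, S.card_moved]

theorem movedZero_subset : S.movedZero ⊆ S.zeroRows := fun p hp => by
  obtain ⟨h1, h2⟩ := mem_filter.mp hp
  exact mem_filter.mpr ⟨(S.mem_moved.mp h1).1, h2⟩

variable [NeZero m]

theorem six_rows (hE : IsExtraspecial 3 ↥(P : Subgroup G)) : S.zeroRows.card = 6 := by
  rcases S.columns.card_cases with h | h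
  · exact h
  exfalso
  have h9 : S.zeroRows.card = 9 := h
  have hm : m ≤ 1 := by
    by_contra hm
    have := S.columns.card_six (by omega)
    omega
  have hpos : S.movedPos = ∅ := Finset.eq_empty_iff_forall_notMem.mpr fun p hp =>
    S.no_positive_of_nine h9 (mem_filter.mp hp).1 (mem_filter.mp hp).2
  have hsub : S.movedZero ⊆ S.zeroRows.erase (oneChar G) := fun p hp =>
    mem_erase.mpr ⟨fun e => (S.mem_moved.mp (mem_filter.mp hp).1).2 (by rw [e, S.twist_one]),
      S.movedZero_subset hp⟩
  have h1 := Finset.card_le_card hsub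
  rw [card_erase_of_mem (show oneChar G ∈ S.zeroRows from S.columns.one_hrow), h9] at h1
  have h2 := S.card_movedPos_add
  rw [hpos, card_empty] at h2
  have h3 := six_le_centralRank S hE
  omega

theorem card_main (hE : IsExtraspecial 3 ↥(P : Subgroup G)) :
    m ≤ 6 ∧ S.centralRank + m = 6 ∧ S.movedZero = ∅ := by
  have h6 := S.six_rows hE
  have hU : S.units.card + m = 6 := S.columns.card_units h6
  have hBsub : S.movedZero ⊆ S.units := by
    intro p hp
    obtain ⟨hpm, hp3⟩ := mem_filter.mp hp
    obtain ⟨hpb, hne⟩ := S.mem_moved.mp hpm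
    refine mem_filter.mpr ⟨S.movedZero_subset hp, fun j => ?_⟩
    by_contra h1
    have hd : p ∈ dbl S.blk deg S.col j := mem_filter.mpr ⟨S.movedZero_subset hp, by
      rcases S.columns.entry (S.movedZero_subset hp) j with e | e | e | e <;> rw [e] at h1 ⊢ <;>
        revert h1 <;> norm_num⟩
    have hd' : S.twist p ∈ dbl S.blk deg S.col j := mem_filter.mpr
      ⟨mem_filter.mpr ⟨S.twist_mem hpb, by rw [S.deg_twist]; exact hp3⟩, by
        rw [S.col_twist hpb]; exact (mem_filter.mp hd).2⟩
    obtain ⟨c, hc⟩ := Finset.card_eq_one.mp (S.columns.dbl_eq h6 j)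
    rw [hc, mem_singleton] at hd hd'
    exact hne (hd'.trans hd.symm)
  have hex : ∀ p ∈ S.movedPos, ∃ θ, θ ∈ S.big p := fun p hp => Finset.card_pos.mp (by
    rw [(S.card_big (mem_filter.mp hp).1 (mem_filter.mp hp).2 h6).1]; norm_num)
  choose! θ hθ using hex
  have himg : S.movedPos.image θ ⊆ S.units \ S.movedZero := by
    intro t ht
    obtain ⟨p, hp, rfl⟩ := mem_image.mp ht
    obtain ⟨hpm, hp3⟩ := mem_filter.mp hp
    exact mem_sdiff.mpr ⟨mem_filter.mpr ⟨(mem_filter.mp (hθ p hp)).1,
      S.big_unit hpm hp3 h6 (hθ p hp)⟩, fun h =>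
        (S.mem_moved.mp (mem_filter.mp h).1).2 (S.big_fixed hpm hp3 h6 (hθ p hp))⟩
  have hfib : ∀ t ∈ S.movedPos.image θ, (S.movedPos.filter fun p => θ p = t).card ≤ 2 := by
    intro t ht
    obtain ⟨p, hp, rfl⟩ := mem_image.mp ht
    refine le_trans (Finset.card_le_card (t := {p, S.twist p}) fun q hq => ?_) Finset.card_le_two
    obtain ⟨hq, e⟩ := mem_filter.mp hq
    rcases S.big_injective (mem_filter.mp hp).1 (mem_filter.mp hp).2 (mem_filter.mp hq).1
      (mem_filter.mp hq).2 h6 (hθ p hp) (e ▸ hθ q hq) with h | h <;> simp [h]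
  have hA := Finset.card_le_mul_card_image S.movedPos 2 hfib
  have hI := Finset.card_le_card himg
  rw [card_sdiff_of_subset hBsub] at hI
  have hB := Finset.card_le_card hBsub
  have h2 := S.card_movedPos_add
  have h3 := six_le_centralRank S hE
  exact ⟨by omega, by omega, Finset.card_eq_zero.mp (by omega)⟩

/-- The invariants. -/
theorem invariants (hE : IsExtraspecial 3 ↥(P : Subgroup G)) :
    S.blk.card + 2 * m = 18 ∧ S.zeroRows.card = 6 ∧
      blockRank 3 (principalBlock M G) + m = 6 := by
  obtain ⟨hm, hl, hB⟩ := S.card_main hE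
  have h6 := S.six_rows hE
  have hfix : ∀ χ ∈ S.blk, (3 : ℤ) ∣ deg χ → S.twist χ ≠ χ := by
    intro χ hχ h3 hf
    apply S.zz_inner_ne_zero hχ h3
    have h0 := S.zz_eq_zero_of_fixed hχ hf fun q hq hqne => by
      have hqm : q ∈ S.moved := S.mem_moved.mpr ⟨hq, hqne⟩
      have hq3 : (3 : ℤ) ∣ deg q := by
        by_contra hn
        have : q ∈ S.movedZero := mem_filter.mpr ⟨hqm, hn⟩
        rw [hB] at this
        exact absurd this (notMem_empty q)
      rw [← S.coe_Ti, (S.card_big hqm hq3 h6).2 χ hχ (fun h => (mem_filter.mp h).2 h3)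
        (fun e => hqne (e ▸ hf)) (fun e => hqne (by
          have h := hf
          rw [e, S.twist_twist] at h
          exact h.symm)), Int.cast_zero]
    simp only [classInner, h0, zero_mul, sum_const_zero, mul_zero]
  have hsplit : S.blk = S.zeroRows ∪ S.movedPos := by
    ext χ
    constructor
    · intro hχ
      by_cases h3 : (3 : ℤ) ∣ deg χ
      · exact mem_union_right _ (mem_filter.mpr ⟨S.mem_moved.mpr ⟨hχ, hfix χ hχ h3⟩, h3⟩)
      · exact mem_union_left _ (mem_filter.mpr ⟨hχ, h3⟩)
    · intro h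
      rcases mem_union.mp h with h | h
      · exact (mem_filter.mp h).1
      · exact (S.mem_moved.mp (mem_filter.mp h).1).1
  have hdisj : Disjoint S.zeroRows S.movedPos := Finset.disjoint_left.mpr fun χ h1 h2 =>
    (mem_filter.mp h1).2 (mem_filter.mp h2).2
  have hA := S.card_movedPos_add
  rw [hB, card_empty, add_zero] at hA
  have hk : S.blk.card = 6 + 2 * S.centralRank := by
    rw [hsplit, card_union_of_disjoint hdisj, h6, hA]
  have he := S.card_block_eq
  have he' : S.blk.card = blockRank 3 (principalBlock M G) + 2 * S.centralRank + m := by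
    exact_mod_cast he
  exact ⟨by omega, h6, by omega⟩

end Setting

/-- A normal 3-complement: 11 characters, nine of height zero, rank one. -/
theorem invariants_of_complement (hM : IsPModular 3 M) (F : Frame P z)
    (h : Cfsg.HasNormalPComplement 3 G) :
    Nat.card (principalBlock M G) = 11 ∧
      Nat.card {χ : IrrCharacter G // χ ∈ principalBlock M G ∧
        blockHeight 3 (principalBlock M G) (χ : G → ℂ) = 0} = 9 ∧
      blockRank 3 (principalBlock M G) = 1 := by
  have hp3 : Fact (Nat.Prime 3) := ⟨hM.1⟩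
  have := Fintype.ofFinite (ConjClasses G)
  refine and_assoc.mp ⟨?_, (blockRank_principal_eq_one_iff hM).mpr h⟩
  set B := (univ : Finset (IrrCharacter G)).filter (· ∈ principalBlock M G) with hB
  have hdeg : ∀ χ ∈ B, (¬ (3 : ℤ) ∣ Setting.deg χ → Setting.deg χ = 1) := fun χ hχ h3 => by
    have h1 := charDegree_eq_one_of_normalPComplement hM h (mem_filter.mp hχ).2
      (fun hd => h3 (by rw [Setting.deg]; exact_mod_cast hd))
    rw [Setting.deg, h1]
    rfl
  have hsq := sum_sq_principal_of_complement hM h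
  rw [← P.card_eq_multiplicity, F.card] at hsq
  have hsq' : ∑ χ ∈ B, Setting.deg χ * Setting.deg χ = 27 := by
    rw [Finset.sum_congr (s₂ := B) (g := fun χ : IrrCharacter G => (χ : G → ℂ) 1 * (χ : G → ℂ) 1)
      (by ext; simp [hB]) (fun _ _ => rfl)] at hsq
    simp only [← Setting.coe_deg] at hsq
    exact_mod_cast hsq
  set H := B.filter fun χ => ¬ (3 : ℤ) ∣ Setting.deg χ with hH
  set E := B.filter fun χ => (3 : ℤ) ∣ Setting.deg χ with hE
  have hone : oneChar G ∈ H := mem_filter.mpr
    ⟨mem_filter.mpr ⟨mem_univ _, one_mem_principalBlock⟩, by rw [Setting.deg_one]; norm_num⟩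
  have hd3 : ∀ χ ∈ E, Setting.deg χ = 3 := by
    intro χ hχ
    obtain ⟨hχB, a, ha⟩ := mem_filter.mp hχ
    have hne : χ ≠ oneChar G := fun e => by
      rw [e, Setting.deg_one] at ha
      omega
    have hle := Finset.sum_le_sum_of_subset_of_nonneg
      (f := fun θ : IrrCharacter G => Setting.deg θ * Setting.deg θ)
      (show ({χ, oneChar G} : Finset (IrrCharacter G)) ⊆ B from by
        intro θ hθ
        rcases mem_insert.mp hθ with rfl | hθ
        · exact hχB
        · exact mem_singleton.mp hθ ▸ (mem_filter.mp hone).1) fun θ _ _ => mul_self_nonneg _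
    rw [hsq', sum_pair hne, Setting.deg_one, ha] at hle
    have hpos : 0 < a := by
      have h0 : 0 < Setting.deg χ := by
        rw [Setting.deg]; exact_mod_cast Nat.pos_of_ne_zero (charDegree_eq χ).2
      omega
    have : a < 2 := by nlinarith
    omega
  have hlin : ∀ χ ∈ H, (χ : G → ℂ) z = 1 := by
    intro χ hχ
    obtain ⟨hχB, hχ3⟩ := mem_filter.mp hχ
    have h1 : (χ : G → ℂ) 1 = 1 := by
      rw [← Setting.coe_deg, hdeg χ hχB hχ3, Int.cast_one]
    obtain ⟨μ, hμ⟩ := Char.linearCharEquiv.surjective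
      (⟨χ, h1⟩ : {θ : IrrCharacter G // (θ : G → ℂ) 1 = 1})
    have e : (χ : G → ℂ) = fun g => (μ g : ℂ) :=
      (congrArg (fun t => ((t.1 : IrrCharacter G) : G → ℂ)) hμ).symm
    obtain ⟨a, ha, hna⟩ : ∃ a, a ∈ (P : Subgroup G) ∧ a ∉ Subgroup.zpowers z := by
      by_contra hn
      have : IsEmpty {a : G // a ∈ (P : Subgroup G) ∧ a ∉ Subgroup.zpowers z} :=
        ⟨fun a => hn ⟨a.1, a.2⟩⟩
      have h24 := F.card_out
      rw [Nat.card_of_isEmpty] at h24
      norm_num at h24
    obtain ⟨w, -, hw⟩ := F.comm a ha hna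
    have hz : z = a⁻¹ * (w * a * w⁻¹) := by rw [hw, inv_mul_cancel_left]
    have hμz : μ z = 1 := by
      rw [hz, map_mul, map_mul, map_mul, map_inv, map_inv,
        mul_comm (μ w) (μ a), mul_inv_cancel_right, inv_mul_cancel]
    simp [e, hμz]
  have horth := blockUnion_orthogonal_regular_singular hM
    (.of_isPBlock (isPBlock_principalBlock (M := M) (G := G)))
    (g := 1) (h := z) (by simp) (by rw [F.orderOf_z])
  rw [finsum_mem_eq_toFinset_sum, Finset.sum_congr (s₂ := B)
    (g := fun χ : IrrCharacter G => (χ : G → ℂ) 1 * conj ((χ : G → ℂ) z))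
    (by ext; simp [hB]) (fun _ _ => rfl),
    ← Finset.sum_filter_add_sum_filter_not B (fun χ => ¬ (3 : ℤ) ∣ Setting.deg χ)] at horth
  simp only [not_not] at horth
  rw [← hH, ← hE] at horth
  rw [← Finset.sum_filter_add_sum_filter_not B (fun χ => ¬ (3 : ℤ) ∣ Setting.deg χ)] at hsq'
  simp only [not_not] at hsq'
  rw [← hH, ← hE, sum_congr rfl (g := fun _ => (1 : ℤ)) (fun χ hχ => by
      rw [hdeg χ (mem_filter.mp hχ).1 (mem_filter.mp hχ).2]; norm_num),
    sum_congr (s₁ := E) rfl (g := fun _ => (9 : ℤ)) (fun χ hχ => by rw [hd3 χ hχ]; norm_num),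
    sum_const, sum_const, nsmul_eq_mul, nsmul_eq_mul, mul_one] at hsq'
  have hle : (H.card : ℝ) ≤ 9 * E.card := by
    have e1 : ∑ χ ∈ H, (χ : G → ℂ) 1 * conj ((χ : G → ℂ) z) = (H.card : ℂ) := by
      rw [sum_congr rfl (g := fun _ => (1 : ℂ)) fun χ hχ => by
        rw [← Setting.coe_deg, hdeg χ (mem_filter.mp hχ).1 (mem_filter.mp hχ).2, hlin χ hχ]; simp]
      simp
    rw [e1] at horth
    have e2 : (H.card : ℂ) = -∑ χ ∈ E, (χ : G → ℂ) 1 * conj ((χ : G → ℂ) z) :=
      eq_neg_of_add_eq_zero_left horth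
    calc (H.card : ℝ) = ‖(H.card : ℂ)‖ := by simp
      _ ≤ ∑ χ ∈ E, ‖(χ : G → ℂ) 1 * conj ((χ : G → ℂ) z)‖ := by
        rw [e2, norm_neg]; exact norm_sum_le _ _
      _ ≤ ∑ χ ∈ E, (9 : ℝ) := by
        refine sum_le_sum fun χ hχ => ?_
        have h1 : (χ : G → ℂ) 1 = 3 := by rw [← Setting.coe_deg, hd3 χ hχ]; norm_num
        have h2 := norm_irr_le χ z
        rw [h1] at h2
        rw [norm_mul, Complex.norm_conj, h1]
        norm_num at h2 ⊢
        linarith
      _ = 9 * E.card := by rw [sum_const, nsmul_eq_mul]; ring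
  have hle' : H.card ≤ 9 * E.card := by exact_mod_cast hle
  have hHpos : 0 < H.card := Finset.card_pos.mpr ⟨_, hone⟩
  have hcount : H.card + 9 * E.card = 27 := by
    have : (H.card : ℤ) + (E.card : ℤ) * 9 = 27 := hsq'
    omega
  refine ⟨?_, ?_⟩
  · rw [Nat.card_eq_fintype_card, ← Set.toFinset_card]
    rw [show (principalBlock M G).toFinset = B by ext; simp [hB]]
    have := Finset.card_filter_add_card_filter_not (s := B) (fun χ => ¬ (3 : ℤ) ∣ Setting.deg χ)
    simp only [not_not] at this
    rw [← hH, ← hE] at this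
    omega
  · rw [Nat.card_eq_fintype_card, Fintype.card_subtype]
    rw [show univ.filter (fun χ : IrrCharacter G => χ ∈ principalBlock M G ∧
        blockHeight 3 (principalBlock M G) (χ : G → ℂ) = 0) = H by
      ext χ; simp [hH, hB, Setting.blockHeight_zero_iff]]
    omega

end CfsgLib.Block.ExtraThree
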