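import Cfsg.Agent.Lib.Block.ExtraThree.Setting

/-!
# The integers `T(χ, p) = ⟨h χ, p - πp⟩`
-/

set_option autoImplicit false
set_option linter.unusedSectionVars false

open Finset
open scoped ComplexConjugate Classical

namespace CfsgLib.Block.ExtraThree.Setting

open Cfsg CfsgLib CfsgLib.Block

universe u

variable {G : Type u} [Group G] [Fintype G] [DecidableEq G] [Fintype (IrrCharacter G)]
  {M : Ideal AlgInt} [M.IsMaximal] {P : Sylow 3 G} {z : G} {m : ℕ} (S : Setting M P z m)

/-- The function of the 3-part defining `h`. -/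
noncomputable def hVal (u : G) : ℂ := 3 * S.sq * epsFun z u

theorem h_eq : S.h = fun g => S.hVal (S.pt g) := rfl

theorem isClassFunction_hVal : IsClassFunction G S.hVal := fun g c => by
  simp only [hVal, isClassFunction_eps z g c]

theorem diff_eq (p : IrrCharacter G) :
    S.diff p = (p : G → ℂ) - (S.twist p : G → ℂ) := rfl

theorem diff_gen (p : IrrCharacter G) : IsGeneralizedCharacter G (S.diff p) :=
  Char.isGeneralizedCharacter_sub
    (Char.isGeneralizedCharacter_of_isCharacter (Char.isCharacter_irr p))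
    (Char.isGeneralizedCharacter_of_isCharacter (Char.isCharacter_irr (S.twist p)))

/-- `W(a, b) = ⟨h a, b⟩`. -/
noncomputable def W (a b : IrrCharacter G) : ℂ :=
  classInner (fun g => S.h g * (a : G → ℂ) g) (b : G → ℂ)

/-- `T(χ, p) = ⟨h χ, p - π p⟩`. -/
noncomputable def T (χ p : IrrCharacter G) : ℂ :=
  classInner (fun g => S.h g * (χ : G → ℂ) g) (S.diff p)

theorem W_int (a b : IrrCharacter G) : ∃ n : ℤ, S.W a b = n :=
  Char.classInner_generalized_int
    (Char.isGeneralizedCharacter_mul S.h_gen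
      (Char.isGeneralizedCharacter_of_isCharacter (Char.isCharacter_irr a)))
    (Char.isGeneralizedCharacter_of_isCharacter (Char.isCharacter_irr b))

theorem T_eq (χ p : IrrCharacter G) : S.T χ p = S.W χ p - S.W χ (S.twist p) := by
  rw [T, diff_eq, Char.classInner_sub_right]; rfl

theorem conj_W (a b : IrrCharacter G) : conj (S.W a b) = S.W a b := by
  obtain ⟨n, e⟩ := S.W_int a b
  rw [e, map_intCast]

/-- Reindexing by the twist exponent. -/
theorem inner_pow (f f' : G → ℂ) :
    classInner (fun g => f (g ^ S.k)) (fun g => f' (g ^ S.k)) = classInner f f' := by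
  simp only [classInner]
  congr 1
  exact Fintype.sum_bijective _ S.pow_bijective _ _ fun g => rfl

theorem W_twist (a b : IrrCharacter G) : S.W (S.twist a) (S.twist b) = -S.W a b := by
  rw [W, W, ← S.inner_pow (fun g => S.h g * (a : G → ℂ) g) (b : G → ℂ), ← Char.classInner_neg_left]
  refine congrArg (fun f => classInner f (S.twist b : G → ℂ)) (funext fun g => ?_)
  simp only [Pi.neg_apply, S.h_pow, twist_apply]
  ring

theorem W_antisymm (a b : IrrCharacter G) : S.W b a = -S.W a b := by
  rw [← S.conj_W b a, W, W, classInner, classInner, map_mul, map_inv₀, map_natCast, map_sum,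
    ← mul_neg, ← Finset.sum_neg_distrib]
  congr 1
  refine sum_congr rfl fun g _ => ?_
  rw [map_mul, map_mul, Complex.conj_conj, S.h_conj]
  ring

theorem T_twist_right (χ p : IrrCharacter G) : S.T χ (S.twist p) = -S.T χ p := by
  rw [S.T_eq, S.T_eq, S.twist_twist]; ring

theorem T_twist_left (χ p : IrrCharacter G) : S.T (S.twist χ) p = S.T χ p := by
  rw [S.T_eq, S.T_eq]
  conv_lhs => arg 1; rw [← S.twist_twist p]
  rw [S.W_twist, S.W_twist]
  ring

theorem T_of_fixed {χ : IrrCharacter G} (hχ : S.twist χ = χ) (p : IrrCharacter G) :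
    S.T χ p = 2 * S.W χ p := by
  have h := S.W_twist χ p
  rw [hχ] at h
  rw [S.T_eq, h]; ring

theorem inner_diff (χ p : IrrCharacter G) :
    classInner (χ : G → ℂ) (S.diff p) =
      (if χ = p then 1 else 0) - (if χ = S.twist p then 1 else 0) := by
  rw [diff_eq, Char.classInner_sub_right, Char.classInner_irr, Char.classInner_irr]

/-- Parity of `T`. -/
theorem exists_T_parity (χ p : IrrCharacter G) (hp : p ∈ S.blk) :
    ∃ X : ℤ, S.T χ p = 2 * X + 3 * classInner (χ : G → ℂ) (S.diff p) := by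
  obtain ⟨X, hX⟩ := Char.classInner_generalized_int
    (Char.isGeneralizedCharacter_mul S.theta_gen
      (Char.isGeneralizedCharacter_of_isCharacter (Char.isCharacter_irr χ))) (S.diff_gen p)
  refine ⟨X, ?_⟩
  rw [← hX, T]
  simp only [classInner, Pi.mul_apply, Finset.mul_sum, ← Finset.sum_add_distrib]
  refine sum_congr rfl fun g _ => ?_
  have hd := S.diff_zz hp g
  have hcd : conj (S.diff p g) = zzFun z (S.pt g) * conj (S.diff p g) := by
    have hc : conj (zzFun z (S.pt g)) = zzFun z (S.pt g) := by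
      simp only [zzFun, ind]; split_ifs <;> simp
    conv_lhs => rw [hd]
    rw [map_mul, hc]
  have key : S.h g * zzFun z (S.pt g) =
      (2 * thetaVal S.ω z (S.pt g) + 3) * zzFun z (S.pt g) := by
    by_cases h1 : IsConj z (S.pt g)
    · have h2 : ¬ IsConj (z ^ 2) (S.pt g) := fun h2 => S.not_conj_z_sq (h1.trans h2.symm)
      have h0 : S.pt g ≠ 1 := fun h0 => S.one_not_conj_z (h0 ▸ h1)
      simp only [h, sq, epsFun, zzFun, thetaVal, ind, if_pos h1, if_neg h2, if_neg h0]
      linear_combination (-3 : ℂ) * S.root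
    · by_cases h2 : IsConj (z ^ 2) (S.pt g)
      · have h0 : S.pt g ≠ 1 := fun h0 => S.one_not_conj_z_sq (h0 ▸ h2)
        simp only [h, sq, epsFun, zzFun, thetaVal, ind, if_pos h2, if_neg h1, if_neg h0]
        linear_combination (-3 : ℂ) * S.root
      · simp only [zzFun, ind, if_neg h1, if_neg h2]; ring
  rw [hcd]
  linear_combination ((Nat.card G : ℂ)⁻¹ * (χ : G → ℂ) g * conj (S.diff p g)) * key

theorem T_int (χ p : IrrCharacter G) : ∃ n : ℤ, S.T χ p = n := by
  obtain ⟨a, ha⟩ := S.W_int χ p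
  obtain ⟨b, hb⟩ := S.W_int χ (S.twist p)
  exact ⟨a - b, by rw [S.T_eq, ha, hb]; push_cast; rfl⟩

/-- `T` as an integer. -/
noncomputable def Ti (χ p : IrrCharacter G) : ℤ := (S.T_int χ p).choose

theorem coe_Ti (χ p : IrrCharacter G) : ((S.Ti χ p : ℤ) : ℂ) = S.T χ p :=
  (S.T_int χ p).choose_spec.symm

theorem conj_T (χ p : IrrCharacter G) : conj (S.T χ p) = S.T χ p := by
  rw [← S.coe_Ti, map_intCast]

theorem inner_hdiff (θ p : IrrCharacter G) :
    classInner (fun g => S.h g * S.diff p g) (θ : G → ℂ) = -S.T θ p := by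
  rw [← S.conj_T, T, classInner, classInner, map_mul, map_inv₀, map_natCast, map_sum,
    ← mul_neg, ← Finset.sum_neg_distrib]
  congr 1
  refine sum_congr rfl fun g _ => ?_
  rw [map_mul, map_mul, Complex.conj_conj, S.h_conj]
  ring

theorem hdiff_eq_sum {p : IrrCharacter G} (hp : p ∈ S.blk) (g : G) :
    S.h g * S.diff p g = -∑ θ ∈ S.blk, S.T θ p * (θ : G → ℂ) g := by
  have e1 := mul_eq_sum S.hM isPBlock_principalBlock S.isClassFunction_hVal (S.mem_blk.mp hp) g
  have e2 := mul_eq_sum S.hM isPBlock_principalBlock S.isClassFunction_hVal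
    (S.mem_blk.mp (S.twist_mem hp)) g
  rw [diff, mul_sub, S.h_eq, e1, e2, ← Finset.sum_sub_distrib, ← Finset.sum_neg_distrib]
  refine sum_congr rfl fun θ _ => ?_
  rw [← sub_mul, ← Char.classInner_sub_left, ← neg_mul]
  congr 1
  rw [← S.inner_hdiff]
  refine congrArg (fun f => classInner f (θ : G → ℂ)) (funext fun x => ?_)
  simp only [Pi.sub_apply, S.h_eq, diff]
  ring

/-- Orthogonality of the rows `T(·, p)`. -/
theorem sum_T_mul {p q : IrrCharacter G} (hp : p ∈ S.blk) :
    ∑ θ ∈ S.blk, S.T θ p * S.T θ q = 27 * classInner (S.diff p) (S.diff q) := by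
  have hL : classInner (fun g => S.h g * S.diff p g) (fun g => S.h g * S.diff q g) =
      27 * classInner (S.diff p) (S.diff q) := by
    simp only [classInner, Finset.mul_sum]
    refine sum_congr rfl fun g _ => ?_
    rw [map_mul]
    conv_rhs => rw [S.diff_zz hp g]
    linear_combination ((Nat.card G : ℂ)⁻¹ * S.diff p g * conj (S.diff q g)) * S.h_mul_conj g
  rw [← hL, show (fun g => S.h g * S.diff p g) = ∑ θ ∈ S.blk, (-S.T θ p) • (θ : G → ℂ) from
    funext fun g => by
      rw [S.hdiff_eq_sum hp g, Finset.sum_apply, ← Finset.sum_neg_distrib]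
      exact sum_congr rfl fun θ _ => by rw [Pi.smul_apply, smul_eq_mul, neg_mul],
    Char.classInner_sum_left]
  refine sum_congr rfl fun θ _ => ?_
  rw [Char.classInner_smul_left, ← Char.classInner_conj, S.inner_hdiff, map_neg, S.conj_T]
  ring

theorem h_one_of_x (j : Fin m) : S.h (S.data.x j) = 0 := by
  have e : S.pt (S.data.x j) = S.data.x j := pPt_eq S.hM
    (isPPart_one_mul ⟨1, by
      rw [pow_one]
      have := S.fact_three
      exact orderOf_eq_prime (S.data.frame.exp _ (S.data.mem j))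
        fun e => S.data.out j (e ▸ one_mem _)⟩ (by norm_num))
  rw [h, e, epsFun, ind, ind, if_neg (S.x_not_conj j (Subgroup.mem_zpowers z)),
    if_neg (S.x_not_conj j (Subgroup.npow_mem_zpowers z 2))]
  ring

/-- The rows `T(·, p)` are orthogonal to the columns of the non-central elements. -/
theorem sum_T_x {p : IrrCharacter G} (hp : p ∈ S.blk) (j : Fin m) :
    ∑ θ ∈ S.blk, S.T θ p * (θ : G → ℂ) (S.data.x j) = 0 := by
  have h := S.hdiff_eq_sum hp (S.data.x j)
  rw [S.h_one_of_x, zero_mul] at h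
  exact neg_eq_zero.mp h.symm

theorem sum_twist (f : IrrCharacter G → ℂ) : ∑ θ ∈ S.blk, f (S.twist θ) = ∑ θ ∈ S.blk, f θ :=
  Finset.sum_nbij' (fun θ => S.twist θ) (fun θ => S.twist θ) (fun _ h => S.twist_mem h)
    (fun _ h => S.twist_mem h) (fun θ _ => S.twist_twist θ) (fun θ _ => S.twist_twist θ)
    fun _ _ => rfl

/-- A fixed character killed by every `T(·, p)` vanishes on the central sections. -/
theorem zz_eq_zero_of_fixed {χ : IrrCharacter G} (hχ : χ ∈ S.blk) (hfix : S.twist χ = χ)
    (hT : ∀ q ∈ S.blk, S.twist q ≠ q → S.T χ q = 0) (g : G) :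
    zzFun z (S.pt g) * (χ : G → ℂ) g = 0 := by
  have hW : ∀ θ ∈ S.blk, S.W χ θ = 0 := by
    intro θ hθ
    by_cases hf : S.twist θ = θ
    · have h := S.W_twist χ θ
      rw [hfix, hf] at h
      linear_combination h / 2
    · have h := S.T_of_fixed hfix θ
      rw [hT θ hθ hf] at h
      linear_combination -h / 2
  have h0 : S.h g * (χ : G → ℂ) g = 0 := by
    rw [S.h_eq, mul_eq_sum S.hM isPBlock_principalBlock S.isClassFunction_hVal (S.mem_blk.mp hχ) g]
    exact sum_eq_zero fun θ hθ => by
      rw [show classInner (fun x => S.hVal (pPt S.hM x) * (χ : G → ℂ) x) (θ : G → ℂ) = S.W χ θ from rfl,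
        hW θ hθ, zero_mul]
  have h1 := S.h_mul_conj g
  linear_combination (-(χ : G → ℂ) g / 27) * h1 + (conj (S.h g) / 27) * h0

/-- The central part of `⟨χ, 1⟩` through `W`. -/
theorem zz_inner_one {χ : IrrCharacter G} (hχ : χ ∈ S.blk) :
    2 * (27 * classInner (fun g => zzFun z (S.pt g) * (χ : G → ℂ) g) (oneChar G : G → ℂ)) =
      ∑ θ ∈ S.blk, S.T χ θ * S.W (oneChar G) θ := by
  have h1 : 27 * classInner (fun g => zzFun z (S.pt g) * (χ : G → ℂ) g) (oneChar G : G → ℂ) =
      ∑ θ ∈ S.blk, S.W χ θ * S.W (oneChar G) θ := by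
    have e := parseval S.hM isPBlock_principalBlock S.isClassFunction_hVal (S.mem_blk.mp hχ)
      (fun g => S.h g * (oneChar G : G → ℂ) g)
    rw [show classInner (fun x => S.hVal (pPt S.hM x) * (χ : G → ℂ) x)
        (fun g => S.h g * (oneChar G : G → ℂ) g) =
        27 * classInner (fun g => zzFun z (S.pt g) * (χ : G → ℂ) g) (oneChar G : G → ℂ) from ?_] at e
    · rw [e]
      refine sum_congr rfl fun θ _ => ?_
      rw [← Char.classInner_conj (fun g => S.h g * (oneChar G : G → ℂ) g) (θ : G → ℂ)]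
      exact congrArg (_ * ·) (S.conj_W _ _)
    · simp only [classInner, Finset.mul_sum, map_mul]
      refine sum_congr rfl fun g _ => ?_
      have hm := S.h_mul_conj g
      rw [S.h_eq] at hm
      simp only [S.h_eq]
      linear_combination ((Nat.card G : ℂ)⁻¹ * (χ : G → ℂ) g * conj ((oneChar G : G → ℂ) g)) * hm
  have h2 : ∑ θ ∈ S.blk, S.W χ θ * S.W (oneChar G) θ =
      -∑ θ ∈ S.blk, S.W χ (S.twist θ) * S.W (oneChar G) θ := by
    rw [← S.sum_twist (fun θ => S.W χ θ * S.W (oneChar G) θ), ← Finset.sum_neg_distrib]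
    refine sum_congr rfl fun θ _ => ?_
    have h := S.W_twist (oneChar G) θ
    rw [S.twist_one] at h
    rw [h]; ring
  rw [h1, two_mul]
  conv_lhs => arg 2; rw [h2]
  rw [← sub_eq_add_neg, ← Finset.sum_sub_distrib]
  exact sum_congr rfl fun θ _ => by rw [S.T_eq]; ring

end CfsgLib.Block.ExtraThree.Setting
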