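import Cfsg.Agent.Lib.Block.ExtraThree.Classes
import Cfsg.Agent.Lib.Block.ExtraThree.Generic
import Cfsg.Agent.Lib.Block.Rank
import Cfsg.Agent.Lib.Block.PairSolvable.Basic
import Cfsg.Agent.Lib.Char.Extraspecial
import Cfsg.Agent.Lib.Char.PowTwist
import Cfsg.Agent.Lib.Char.TwoNonzero

/-!
# The principal block: sections, the twist inverting 3-parts, and the generalized character `Θ`
-/

set_option autoImplicit false
set_option linter.unusedSectionVars false

open Finset
open scoped ComplexConjugate Classical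

namespace CfsgLib.Block.ExtraThree

open Cfsg CfsgLib CfsgLib.Block

universe u

variable {G : Type u} [Group G]

/-- The indicator of a class. -/
noncomputable def ind (v u : G) : ℂ := if IsConj v u then 1 else 0

/-- `1` on the class of `z`, `-1` on that of `z²`. -/
noncomputable def epsFun (z u : G) : ℂ := ind z u - ind (z ^ 2) u

/-- `1` on the classes of `z` and `z²`. -/
noncomputable def zzFun (z u : G) : ℂ := ind z u + ind (z ^ 2) u

/-- The values `3, 3ω, 3ω²` on the classes of `1, z, z²`. -/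
noncomputable def thetaVal (ω : ℂ) (z u : G) : ℂ :=
  (if u = 1 then 3 else 0) + 3 * ω * ind z u + 3 * ω ^ 2 * ind (z ^ 2) u

theorem isClassFunction_ind (v : G) : IsClassFunction G (ind v) := fun g c => by
  have h : IsConj v (c * g * c⁻¹) ↔ IsConj v g :=
    ⟨fun h => h.trans (isConj_iff.mpr ⟨c, rfl⟩).symm, fun h => h.trans (isConj_iff.mpr ⟨c, rfl⟩)⟩
  simp only [ind]
  exact if_congr h rfl rfl

theorem isClassFunction_eps (z : G) : IsClassFunction G (epsFun z) := fun g c => by
  simp only [epsFun, isClassFunction_ind z g c, isClassFunction_ind (z ^ 2) g c]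

theorem isClassFunction_zz (z : G) : IsClassFunction G (zzFun z) := fun g c => by
  simp only [zzFun, isClassFunction_ind z g c, isClassFunction_ind (z ^ 2) g c]

theorem isClassFunction_thetaVal (ω : ℂ) (z : G) : IsClassFunction G (thetaVal ω z) := fun g c => by
  simp only [thetaVal, isClassFunction_ind z g c, isClassFunction_ind (z ^ 2) g c, conj_eq_one_iff]

variable [Fintype G] [DecidableEq G]

/-- The data for the character argument. -/
structure Setting (M : Ideal AlgInt) [M.IsMaximal] (P : Sylow 3 G) (z : G) (m : ℕ) where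
  hM : IsPModular 3 M
  data : Data P z m
  ω : ℂ
  root : ω ^ 2 + ω + 1 = 0
  theta_gen : IsGeneralizedCharacter G (fun g => thetaVal ω z (pPt hM g))
  k : ℕ
  k_coprime : (Nat.card G).Coprime k
  k_regular : ∀ y : G, ¬ 3 ∣ orderOf y → y ^ k = y
  k_pPow : ∀ u : G, (∃ i, orderOf u = 3 ^ i) → u ^ k = u⁻¹
  k_sq : ∀ g : G, (g ^ k) ^ k = g

theorem cube_root_facts {ω : ℂ} (h : ω ^ 2 + ω + 1 = 0) :
    ω ^ 3 = 1 ∧ ω ≠ 1 ∧ conj ω = ω ^ 2 ∧ (ω - ω ^ 2) ^ 2 = -3 ∧ IsIntegral ℤ ω := by
  have h3 : ω ^ 3 = 1 := by linear_combination (ω - 1) * h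
  refine ⟨h3, fun e => ?_, ?_, ?_, isIntegral_of_pow_eq_one (by norm_num) h3⟩
  · rw [e] at h; norm_num at h
  · have hn : ‖ω‖ = 1 := Complex.norm_eq_one_of_pow_eq_one h3 (by norm_num)
    have h1 : conj ω * ω = 1 := by rw [Complex.conj_mul', hn]; norm_num
    calc conj ω = conj ω * ω ^ 3 := by rw [h3, mul_one]
      _ = conj ω * ω * ω ^ 2 := by ring
      _ = ω ^ 2 := by rw [h1, one_mul]
  · linear_combination (ω ^ 2 - 3 * ω + 3) * h

/-- The twist exponent: trivial on 3-regular elements, inverting 3-elements. -/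
theorem exists_twist_exp {M : Ideal AlgInt} [M.IsMaximal] (hM : IsPModular 3 M) {P : Sylow 3 G}
    (h27 : Nat.card ↥(P : Subgroup G) = 27) :
    ∃ k : ℕ, (Nat.card G).Coprime k ∧ (∀ y : G, ¬ 3 ∣ orderOf y → y ^ k = y) ∧
      (∀ u : G, (∃ i, orderOf u = 3 ^ i) → u ^ k = u⁻¹) ∧ ∀ g : G, (g ^ k) ^ k = g := by
  have hG : Nat.card G = 27 * (P : Subgroup G).index := by
    rw [← h27, (P : Subgroup G).card_mul_index]
  have : Fact (Nat.Prime 3) := ⟨hM.1⟩
  set n := (P : Subgroup G).index with hn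
  have hcop : Nat.Coprime 27 n := by
    have h := (Nat.prime_three.coprime_iff_not_dvd.mpr P.not_dvd_index).pow_left 3
    simpa using h
  obtain ⟨k, h1, h2⟩ := Nat.chineseRemainder hcop 26 1
  have hk1 : ∀ y : G, ¬ 3 ∣ orderOf y → y ^ k = y := fun y hy => by
    have hd : orderOf y ∣ n := by
      have hc : Nat.Coprime (orderOf y) 27 := by
        have h := ((Nat.prime_three.coprime_iff_not_dvd.mpr hy).pow_left 3).symm
        simpa using h
      exact hc.dvd_of_dvd_mul_left (hG ▸ orderOf_dvd_natCard y)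
    conv_rhs => rw [← pow_one y]
    exact pow_eq_pow_iff_modEq.mpr (h2.of_dvd hd)
  have hk2 : ∀ u : G, (∃ i, orderOf u = 3 ^ i) → u ^ k = u⁻¹ := fun u ⟨i, hi⟩ => by
    have hd : orderOf u ∣ 27 := by
      have hc : Nat.Coprime (orderOf u) n := by
        rw [hi]; exact (Nat.prime_three.coprime_iff_not_dvd.mpr P.not_dvd_index).pow_left i
      exact hc.dvd_of_dvd_mul_right (hG ▸ orderOf_dvd_natCard u)
    rw [pow_eq_pow_iff_modEq.mpr (h1.of_dvd hd)]
    exact eq_inv_of_mul_eq_one_left (by rw [← pow_succ, orderOf_dvd_iff_pow_eq_one.mp hd])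
  refine ⟨k, ?_, hk1, hk2, fun g => ?_⟩
  · rw [hG]
    refine Nat.Coprime.mul_left ?_ ?_
    · rw [Nat.coprime_comm, Nat.Coprime, h1.gcd_eq]; rfl
    · rw [Nat.coprime_comm, Nat.Coprime, h2.gcd_eq]; simp
  · rw [← pow_mul]
    conv_rhs => rw [← pow_one g]
    refine pow_eq_pow_iff_modEq.mpr (Nat.ModEq.of_dvd (hG ▸ orderOf_dvd_natCard g) ?_)
    refine (Nat.modEq_and_modEq_iff_modEq_mul hcop).mp ⟨(h1.mul h1).trans ?_, by simpa using h2.mul h2⟩
    decide

/-- The setting exists. -/
theorem exists_setting {M : Ideal AlgInt} [M.IsMaximal] (hM : IsPModular 3 M) {P : Sylow 3 G}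
    {z : G} {m : ℕ} (D : Data P z m) (hE : IsExtraspecial 3 ↥(P : Subgroup G)) :
    Nonempty (Setting M P z m) := by
  have F := D.frame
  have : Fact (Nat.Prime 3) := ⟨hM.1⟩
  obtain ⟨k, h1, h2, h3, h4⟩ := exists_twist_exp hM (P := P) F.card
  let Q := (P : Subgroup G)
  have := Fintype.ofFinite (IrrCharacter Q)
  have hcnt := Char.extraspecial_count (n := 1) hE (by rw [F.card]; norm_num)
  obtain ⟨⟨χ, hχ⟩⟩ : Nonempty {χ : IrrCharacter Q // (χ : Q → ℂ) 1 = ((3 : ℕ) : ℂ) ^ 1} := by
    rw [← not_isEmpty_iff]; intro he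
    rw [Nat.card_of_isEmpty] at hcnt
    norm_num at hcnt
  rw [pow_one] at hχ
  let z' : Q := ⟨z, F.mem⟩
  have hz' : ∀ t : Q, Commute z' t := fun t => Subtype.ext (F.central t t.2).symm.eq
  obtain ⟨ω, hω3, hω⟩ := exists_central_scalar χ hz' (n := 3) (Subtype.ext (by simpa using F.z_cube))
  have hval : ∀ i : ℕ, (χ : Q → ℂ) (z' ^ i) = 3 * ω ^ i := by
    intro i
    induction i with
    | zero => simp [hχ]
    | succ i ih => rw [pow_succ', hω, ih]; ring
  have hne : ∀ {i j : ℕ}, i < 3 → j < 3 → z ^ i = z ^ j → i = j := fun hi hj e =>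
    pow_injOn_Iio_orderOf (by simpa [F.orderOf_z] using hi) (by simpa [F.orderOf_z] using hj) e
  have hnorm1 : ‖ω‖ = 1 := Complex.norm_eq_one_of_pow_eq_one hω3 (by norm_num)
  let S : Finset Q := (Finset.range 3).image (fun i => z' ^ i)
  have hS : ∀ f : Q → ℂ, ∑ x ∈ S, f x = f 1 + f z' + f (z' ^ 2) := by
    intro f
    rw [Finset.sum_image ?_, Finset.sum_range_succ, Finset.sum_range_succ, Finset.sum_range_one]
    · simp
    · intro i hi j hj e
      exact hne (Finset.mem_range.mp hi) (Finset.mem_range.mp hj)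
        (by simpa [z'] using congrArg Subtype.val e)
  have hvan : ∀ x : Q, x ∉ S → (χ : Q → ℂ) x = 0 := by
    have hn := Char.classInner_irr_self χ
    rw [classInner, inv_mul_eq_one₀ Char.card_ne_zero'] at hn
    have hs : ∑ x ∈ S, (χ : Q → ℂ) x * conj ((χ : Q → ℂ) x) = 27 := by
      rw [hS, ← pow_one z', ← pow_mul, hval, hval, hχ, pow_one]
      simp only [map_mul, map_pow, map_ofNat, map_natCast]
      have hc : ω * conj ω = 1 := by rw [Complex.mul_conj', hnorm1]; norm_num
      push_cast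
      linear_combination (9 * (ω * conj ω + 1) + 9) * hc
    rw [← Finset.sum_add_sum_compl S, hs, show (Nat.card Q : ℂ) = 27 by rw [F.card]; norm_num] at hn
    have h0 : ∑ x ∈ Sᶜ, Complex.normSq ((χ : Q → ℂ) x) = 0 := by
      rw [← Complex.ofReal_eq_zero, Complex.ofReal_sum]
      simp only [← Complex.mul_conj]
      linear_combination -hn
    intro x hx
    exact Complex.normSq_eq_zero.mp
      ((Finset.sum_eq_zero_iff_of_nonneg fun i _ => Complex.normSq_nonneg _).mp h0 x
        (Finset.mem_compl.mpr hx))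
  have hne1 : χ ≠ oneChar Q := fun e => by
    rw [e] at hχ
    change (1 : ℂ) = ((3 : ℕ) : ℂ) at hχ
    norm_num at hχ
  have horth := Char.classInner_irr_ne hne1
  rw [classInner, mul_eq_zero] at horth
  have hsum := horth.resolve_left (inv_ne_zero Char.card_ne_zero')
  rw [← Finset.sum_subset (Finset.subset_univ S) (fun x _ hx => by rw [hvan x hx, zero_mul]), hS,
    ← pow_one z', ← pow_mul, hval, hval, hχ, pow_one] at hsum
  simp only [oneChar, map_one, mul_one] at hsum
  push_cast at hsum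
  have hroot : ω ^ 2 + ω + 1 = 0 := by linear_combination hsum / 3
  refine ⟨⟨hM, D, ω, hroot, ?_, k, h1, h2, h3, h4⟩⟩
  refine isGeneralizedCharacter_comp_pPt hM (isClassFunction_thetaVal ω z) P ?_
  convert Char.isGeneralizedCharacter_of_isCharacter (Char.isCharacter_irr χ) using 1
  funext x
  have hiff : ∀ i : ℕ, IsConj (z ^ i) (x : G) ↔ x = z' ^ i := fun i =>
    ⟨fun h => by
      obtain ⟨c, hc⟩ := isConj_iff.mp h
      refine Subtype.ext ?_
      rw [← hc, F.isolated' (Subgroup.npow_mem_zpowers z i) (hc ▸ x.2)]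
      rfl, fun h => h ▸ IsConj.refl _⟩
  have h1' : IsConj z (x : G) ↔ x = z' := by simpa using hiff 1
  have h0' : (x : G) = 1 ↔ x = 1 := by rw [← OneMemClass.coe_one Q, Subtype.coe_inj]
  have e1 : z' ≠ 1 := fun e => F.ne (congrArg Subtype.val e)
  have e2 : z' ^ 2 ≠ 1 := fun e => absurd
    (hne (i := 2) (j := 0) (by norm_num) (by norm_num) (by simpa [z'] using congrArg Subtype.val e))
    (by norm_num)
  have e12 : z' ^ 2 ≠ z' := fun e => absurd
    (hne (i := 2) (j := 1) (by norm_num) (by norm_num) (by simpa [z'] using congrArg Subtype.val e))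
    (by norm_num)
  simp only [thetaVal, ind, h0', h1', hiff 2]
  by_cases hx : x ∈ S
  · obtain ⟨i, hi, rfl⟩ := Finset.mem_image.mp hx
    rw [hval]
    have hi' := Finset.mem_range.mp hi
    interval_cases i <;> simp [e1, e1.symm, e2, e2.symm, e12, e12.symm]
  · rw [hvan x hx]
    have hx' : ∀ i < 3, x ≠ z' ^ i := fun i hi e =>
      hx (Finset.mem_image.mpr ⟨i, Finset.mem_range.mpr hi, e.symm⟩)
    have a0 := hx' 0 (by norm_num)
    have a1 := hx' 1 (by norm_num)
    rw [pow_zero] at a0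
    rw [pow_one] at a1
    simp [a0, a1, hx' 2 (by norm_num)]

namespace Setting

variable {M : Ideal AlgInt} [M.IsMaximal] {P : Sylow 3 G} {z : G} {m : ℕ} (S : Setting M P z m)
include S

/-- The `3`-part. -/
noncomputable abbrev pt (g : G) : G := pPt S.hM g

/-- `ω - ω²`, a square root of `-3`. -/
def sq : ℂ := S.ω - S.ω ^ 2

/-- `h = Θ - conj Θ`. -/
noncomputable def h (g : G) : ℂ := 3 * S.sq * epsFun z (S.pt g)

theorem sq_sq : S.sq ^ 2 = -3 := (cube_root_facts S.root).2.2.2.1

theorem conj_sq : conj S.sq = -S.sq := by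
  obtain ⟨h3, -, hc, -, -⟩ := cube_root_facts S.root
  rw [sq, map_sub, map_pow, hc, ← pow_mul]
  linear_combination -S.ω * h3

theorem sq_integral : IsIntegral ℤ S.sq := by
  obtain ⟨-, -, -, -, hi⟩ := cube_root_facts S.root
  exact hi.sub (hi.pow 2)

theorem fact_three : Fact (Nat.Prime 3) := ⟨S.hM.1⟩

theorem orderOf_rep_z : ∃ i, orderOf z = 3 ^ i := ⟨1, by rw [S.data.frame.orderOf_z, pow_one]⟩

theorem not_conj_z_sq : ¬ IsConj z (z ^ 2) := by
  intro h
  obtain ⟨c, hc⟩ := isConj_iff.mp h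
  have e := S.data.frame.isolated c (by rw [hc]; exact pow_mem S.data.frame.mem 2)
  rw [hc, pow_two, mul_eq_left] at e
  exact S.data.frame.ne e

theorem one_not_conj_z : ¬ IsConj z (1 : G) := fun h => S.data.frame.ne (isConj_one_left.mp h)

theorem one_not_conj_z_sq : ¬ IsConj (z ^ 2) (1 : G) := fun h => by
  have e := isConj_one_left.mp h
  have h3 := S.data.frame.z_cube
  rw [pow_succ, e, one_mul] at h3
  exact S.data.frame.ne h3

theorem x_not_conj (j : Fin m) {u : G} (hu : u ∈ Subgroup.zpowers z) : ¬ IsConj u (S.data.x j) :=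
  S.data.frame.not_isConj (S.data.mem j) (S.data.out j) hu

/-- Every 3-element is conjugate to exactly one representative. -/
theorem classify (g : G) : S.pt g = 1 ∨ IsConj z (S.pt g) ∨ IsConj (z ^ 2) (S.pt g) ∨
    ∃ j, IsConj (S.data.x j) (S.pt g) := by
  obtain ⟨c, hc⟩ := S.data.frame.exists_conj_mem (pPow_pPt S.hM g)
  have hcon : IsConj (S.pt g) (c * S.pt g * c⁻¹) := isConj_iff.mpr ⟨c, rfl⟩
  by_cases hZ : c * S.pt g * c⁻¹ ∈ Subgroup.zpowers z
  · rcases (zpowers_three S.data.frame.z_cube).mp hZ with e | e | e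
    · exact Or.inl (conj_eq_one_iff.mp e)
    · exact Or.inr (Or.inl (e ▸ hcon).symm)
    · exact Or.inr (Or.inr (Or.inl (e ▸ hcon).symm))
  · obtain ⟨j, hj⟩ := S.data.cover _ hc hZ
    exact Or.inr (Or.inr (Or.inr ⟨j, (hcon.trans hj).symm⟩))

theorem partition_one (g : G) : (if S.pt g = 1 then (1 : ℂ) else 0) + ind z (S.pt g) +
    ind (z ^ 2) (S.pt g) + ∑ j, ind (S.data.x j) (S.pt g) = 1 := by
  have hx : ∀ u ∈ Subgroup.zpowers z, IsConj u (S.pt g) →
      ∑ j, ind (S.data.x j) (S.pt g) = 0 := fun u hu h =>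
    Finset.sum_eq_zero fun j _ => if_neg fun h' => S.x_not_conj j hu (h.trans h'.symm)
  rcases S.classify g with h | h | h | ⟨j, hj⟩
  · have e := hx 1 (one_mem _) (h ▸ IsConj.refl _)
    rw [e, if_pos h, ind, ind, if_neg (h ▸ S.one_not_conj_z), if_neg (h ▸ S.one_not_conj_z_sq)]
    ring
  · have e := hx z (Subgroup.mem_zpowers z) h
    rw [e, if_neg fun h1 : S.pt g = 1 => S.one_not_conj_z (h1 ▸ h), ind, ind, if_pos h,
      if_neg fun h2 => S.not_conj_z_sq (h.trans h2.symm)]
    ring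
  · have e := hx _ (Subgroup.npow_mem_zpowers z 2) h
    rw [e, if_neg fun h1 : S.pt g = 1 => S.one_not_conj_z_sq (h1 ▸ h), ind, ind,
      if_neg fun h2 => S.not_conj_z_sq (h2.trans h.symm), if_pos h]
    ring
  · have h1 : S.pt g ≠ 1 := fun h1 =>
      S.x_not_conj j (one_mem _) (IsConj.symm (h1 ▸ hj))
    rw [if_neg h1, ind, ind, if_neg fun h2 => S.x_not_conj j (Subgroup.mem_zpowers z) (h2.trans hj.symm),
      if_neg fun h2 => S.x_not_conj j (Subgroup.npow_mem_zpowers z 2) (h2.trans hj.symm),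
      Finset.sum_eq_single (f := fun i => ind (S.data.x i) (S.pt g)) j
        (fun i _ hi => if_neg fun h2 : IsConj (S.data.x i) (S.pt g) =>
          hi (S.data.distinct i j (h2.trans hj.symm)))
        (fun hn => absurd (mem_univ j) hn), ind, if_pos hj]
    ring

theorem pt_regular {g : G} (h : S.pt g = 1) : ¬ 3 ∣ orderOf g :=
  not_dvd_of_isPPart_one (h ▸ isPPart_pPt S.hM g)

theorem pt_eq_one {g : G} (hg : ¬ 3 ∣ orderOf g) : S.pt g = 1 :=
  pPt_eq S.hM (isPPart_one_of_not_dvd hg)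

theorem pow_eq (g : G) : ∃ y : G, g = S.pt g * y ∧ Commute (S.pt g) y ∧ ¬ 3 ∣ orderOf y ∧
    g ^ S.k = (S.pt g)⁻¹ * y ∧ S.pt (g ^ S.k) = (S.pt g)⁻¹ := by
  obtain ⟨y, hy, hc, ⟨i, hi⟩, hreg⟩ := isPPart_pPt S.hM g
  have e : g ^ S.k = (S.pt g)⁻¹ * y := by
    conv_lhs => rw [← hy]
    rw [hc.mul_pow, S.k_pPow _ ⟨i, hi⟩, S.k_regular y hreg]
  refine ⟨y, hy.symm, hc, hreg, e, ?_⟩
  exact pPt_eq S.hM ⟨y, e.symm, hc.inv_left, ⟨i, by rw [orderOf_inv, hi]⟩, hreg⟩

theorem pow_bijective : Function.Bijective (fun g : G => g ^ S.k) :=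
  ⟨Function.LeftInverse.injective S.k_sq, Function.RightInverse.surjective S.k_sq⟩

theorem eps_inv (u : G) : epsFun z u⁻¹ = -epsFun z u := by
  have h : ∀ v : G, IsConj v u⁻¹ ↔ IsConj v⁻¹ u := fun v => by
    simp only [isConj_iff]
    refine exists_congr fun c => ?_
    rw [← inv_inj, inv_inv]
    simp [mul_assoc]
  have e1 : z⁻¹ = z ^ 2 := S.data.frame.inv_z
  have e2 : (z ^ 2)⁻¹ = z := by rw [← e1, inv_inv]
  simp only [epsFun, ind, h, e1, e2]
  ring

theorem h_pow (g : G) : S.h (g ^ S.k) = -S.h g := by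
  obtain ⟨y, -, -, -, -, e⟩ := S.pow_eq g
  rw [h, h, e, S.eps_inv]
  ring

/-- The twist. -/
noncomputable def twist (χ : IrrCharacter G) : IrrCharacter G :=
  ⟨_, Char.isIrrCharacter_powMap S.k_coprime χ⟩

theorem twist_apply (χ : IrrCharacter G) (g : G) :
    (S.twist χ : G → ℂ) g = (χ : G → ℂ) (g ^ S.k) := rfl

theorem twist_twist (χ : IrrCharacter G) : S.twist (S.twist χ) = χ :=
  Subtype.ext (funext fun g => by rw [twist_apply, twist_apply, S.k_sq])

theorem twist_one : S.twist (oneChar G) = oneChar G := Subtype.ext rfl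

theorem twist_degree (χ : IrrCharacter G) : (S.twist χ : G → ℂ) 1 = (χ : G → ℂ) 1 := by
  rw [twist_apply, one_pow]

theorem twist_regular (χ : IrrCharacter G) {g : G} (hg : ¬ 3 ∣ orderOf g) :
    (S.twist χ : G → ℂ) g = (χ : G → ℂ) g := by
  rw [twist_apply, S.k_regular g hg]

variable [Fintype (IrrCharacter G)]

/-- The principal block as a finset. -/
noncomputable def blk (_S : Setting M P z m) : Finset (IrrCharacter G) :=
  univ.filter (· ∈ principalBlock M G)

theorem mem_blk {χ : IrrCharacter G} : χ ∈ S.blk ↔ χ ∈ principalBlock M G := by simp [blk]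

theorem one_mem_blk : oneChar G ∈ S.blk := S.mem_blk.mpr one_mem_principalBlock

theorem twist_mem {χ : IrrCharacter G} (hχ : χ ∈ S.blk) : S.twist χ ∈ S.blk := by
  rw [S.mem_blk] at hχ ⊢
  by_contra hn
  have h0 := regInner_eq_zero_of_not_mem S.hM (.of_isPBlock isPBlock_principalBlock) hχ hn
  have h1 : regInner 3 χ (S.twist χ) = regInner 3 χ χ := by
    simp only [regInner, classInner]
    congr 1
    refine sum_congr rfl fun g _ => ?_
    by_cases hg : 3 ∣ orderOf g
    · simp [regFun, hg]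
    · rw [S.twist_regular χ hg]
  rw [h1] at h0
  have h2 : (Nat.card G : ℂ) * regInner 3 χ χ = 0 := by rw [h0, mul_zero]
  rw [card_mul_regInner] at h2
  simp only [Char.irr_inv, Complex.mul_conj, ← Complex.ofReal_sum, Complex.ofReal_eq_zero] at h2
  have h3 := (Finset.sum_eq_zero_iff_of_nonneg fun i _ => Complex.normSq_nonneg _).mp h2 1 (by simp)
  exact Char.irr_one_ne_zero χ (Complex.normSq_eq_zero.mp h3)

theorem value_x {χ : IrrCharacter G} (hχ : χ ∈ S.blk) {g : G} {j : Fin m}
    (hg : IsConj (S.data.x j) (S.pt g)) : (χ : G → ℂ) g = (χ : G → ℂ) (S.data.x j) := by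
  have := S.fact_three
  obtain ⟨y, hy, hc, hk, hreg⟩ := isPPart_pPt S.hM g
  set C := Subgroup.centralizer ({S.pt g} : Set G) with hC
  have hxg : ∀ t : G, t ∈ C ↔ Commute t (S.pt g) := fun t => Subgroup.mem_centralizer_singleton_iff
  have hcomp : Cfsg.HasNormalPComplement 3 C := by
    obtain ⟨c, hc'⟩ := isConj_iff.mp hg
    have hle : ∀ t : G, t ∈ C → c⁻¹ * t * c ∈ Subgroup.centralizer ({S.data.x j} : Set G) := by
      intro t ht
      refine Subgroup.mem_centralizer_singleton_iff.mpr ?_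
      have h1 := ((hxg t).mp ht).map (MulAut.conj c⁻¹).toMonoidHom
      simp only [MulEquiv.toMonoidHom_eq_coe, MonoidHom.coe_coe, MulAut.conj_apply, inv_inv] at h1
      rw [← hc', show c⁻¹ * (c * S.data.x j * c⁻¹) * c = S.data.x j by group] at h1
      exact h1.eq
    refine Fusion.hasNormalPComplement_of_injective (p := 3)
      (h := S.data.frame.complement (S.data.mem j) (S.data.out j))
      (MonoidHom.mk' (fun t : C => ⟨c⁻¹ * t * c, hle t t.2⟩) fun a b => Subtype.ext ?_)
      (fun a b e => Subtype.ext ?_)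
    · simp only [Subgroup.coe_mul]; group
    · exact mul_left_cancel (mul_right_cancel (congrArg Subtype.val e))
  have := Fintype.ofFinite C
  have h1 := PairSolvable.principal_value_eq S.hM hk hxg hcomp (S.mem_blk.mp hχ)
    (c := ⟨y, (hxg y).mpr hc.symm⟩) (by rwa [← Subgroup.orderOf_coe])
  rw [hy] at h1
  rw [h1]
  exact (Char.classFun_isConj (Char.isClassFunction_irr χ) hg).symm

theorem conj_value_x {χ : IrrCharacter G} (j : Fin m) :
    conj ((χ : G → ℂ) (S.data.x j)) = (χ : G → ℂ) (S.data.x j) := by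
  rw [← Char.irr_inv]
  exact (Char.classFun_isConj (Char.isClassFunction_irr χ)
    (S.data.real _ (S.data.mem j) (S.data.out j))).symm

theorem twist_x {χ : IrrCharacter G} (hχ : χ ∈ S.blk) {g : G} {j : Fin m}
    (hg : IsConj (S.data.x j) (S.pt g)) : (S.twist χ : G → ℂ) g = (χ : G → ℂ) g := by
  obtain ⟨y, -, -, -, -, e⟩ := S.pow_eq g
  have h2 : IsConj (S.data.x j) (S.pt (g ^ S.k)) := by
    rw [e]
    refine (S.data.real _ (S.data.mem j) (S.data.out j)).trans ?_
    obtain ⟨c, hc⟩ := isConj_iff.mp hg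
    exact isConj_iff.mpr ⟨c, by rw [← hc]; group⟩
  rw [twist_apply, S.value_x hχ h2, S.value_x hχ hg]

/-- The difference of a character and its twist. -/
noncomputable def diff (χ : IrrCharacter G) (g : G) : ℂ :=
  (χ : G → ℂ) g - (S.twist χ : G → ℂ) g

theorem diff_zz {χ : IrrCharacter G} (hχ : χ ∈ S.blk) (g : G) :
    S.diff χ g = zzFun z (S.pt g) * S.diff χ g := by
  have hp := S.partition_one g
  rcases S.classify g with h | h | h | ⟨j, hj⟩
  · rw [diff, S.twist_regular χ (S.pt_regular h), sub_self, mul_zero]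
  · rw [zzFun, ind, ind, if_pos h, if_neg fun h2 => S.not_conj_z_sq (h.trans h2.symm)]; ring
  · rw [zzFun, ind, ind, if_pos h, if_neg fun h2 => S.not_conj_z_sq (h2.trans h.symm)]; ring
  · rw [diff, S.twist_x hχ hj, sub_self, mul_zero]

theorem diff_pow (χ : IrrCharacter G) (g : G) : S.diff χ (g ^ S.k) = -S.diff χ g := by
  simp only [diff, twist_apply, S.k_sq]
  ring

theorem diff_twist (χ : IrrCharacter G) (g : G) : S.diff (S.twist χ) g = -S.diff χ g := by
  rw [diff, diff, S.twist_twist]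
  ring

theorem eps_sq (u : G) : epsFun z u * epsFun z u = zzFun z u := by
  simp only [epsFun, zzFun, ind]
  by_cases h1 : IsConj z u
  · rw [if_pos h1, if_neg fun h2 => S.not_conj_z_sq (h1.trans h2.symm)]; ring
  · rw [if_neg h1]; split_ifs <;> ring

theorem h_mul_conj (g : G) : S.h g * conj (S.h g) = 27 * zzFun z (S.pt g) := by
  have hc : conj (epsFun z (S.pt g)) = epsFun z (S.pt g) := by
    simp only [epsFun, ind]
    split_ifs <;> simp
  rw [h, map_mul, map_mul, hc, S.conj_sq, ← S.eps_sq]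
  simp only [map_ofNat]
  linear_combination (-9 * epsFun z (S.pt g) * epsFun z (S.pt g)) * S.sq_sq

theorem h_conj (g : G) : conj (S.h g) = -S.h g := by
  have hc : conj (epsFun z (S.pt g)) = epsFun z (S.pt g) := by
    simp only [epsFun, ind]
    split_ifs <;> simp
  rw [h, map_mul, map_mul, hc, S.conj_sq, map_ofNat]
  ring

/-- `h` is a generalized character. -/
theorem h_gen : IsGeneralizedCharacter G S.h := by
  obtain ⟨h3, -, hcω, -, -⟩ := cube_root_facts S.root
  have hθ := S.theta_gen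
  have hinv := Char.isGeneralizedCharacter_comp hθ (MonoidHom.id G)
  have hconj : IsGeneralizedCharacter G (fun g => conj (thetaVal S.ω z (pPt S.hM g))) := by
    obtain ⟨a, b, ha, hb, e⟩ := hθ
    refine ⟨fun g => conj (a g), fun g => conj (b g), Char.isCharacter_conj ha,
      Char.isCharacter_conj hb, funext fun g => ?_⟩
    have := congrFun e g
    simp only [Pi.sub_apply] at this ⊢
    rw [this, map_sub]
  convert Char.isGeneralizedCharacter_sub hθ hconj using 1
  funext g
  simp only [h, Pi.sub_apply, thetaVal, epsFun, sq, map_add, map_mul, map_pow, hcω, ind,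
    apply_ite (starRingEnd ℂ), map_one, map_zero, map_ofNat]
  have h4 : (S.ω ^ 2) ^ 2 = S.ω := by linear_combination S.ω * h3
  rw [h4]
  ring

end Setting

end CfsgLib.Block.ExtraThree
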